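import Mathlib.RingTheory.Etale.Weakly
import Mathlib.RingTheory.Flat.Localization
import Mathlib.RingTheory.Ideal.Pure
import Mathlib.RingTheory.KrullDimension.Zero
import Mathlib.RingTheory.TensorProduct.Maps
import Mathlib.RingTheory.LocalProperties.Reduced
import Mathlib.RingTheory.Flat.Stability

/-!
Absolutely flat rings, and basic properties of weakly étale algebras
(flatness over `A` upgrades to flatness over `B` when `B ⊗[A] B → B` is flat).
-/

set_option autoImplicit false

open TensorProduct

namespace Groth.Agent.WEtale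

universe u v w

/-- von Neumann regularity -/
def IsVNR (A : Type*) [CommRing A] : Prop := ∀ a : A, ∃ b, a = a * a * b

lemma IsVNR.isReduced {A : Type*} [CommRing A] (h : IsVNR A) : IsReduced A := by
  rw [isReduced_iff_pow_one_lt 2 one_lt_two]
  intro x hx
  obtain ⟨b, hb⟩ := h x
  rw [hb, ← pow_two, hx, zero_mul]

lemma IsVNR.isMaximal {A : Type*} [CommRing A] (h : IsVNR A) (p : Ideal A) [hp : p.IsPrime] :
    p.IsMaximal := by
  refine Ideal.isMaximal_iff.mpr ⟨(Ideal.ne_top_iff_one p).mp hp.ne_top, ?_⟩
  intro J x hle hxp hxJ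
  obtain ⟨b, hb⟩ := h x
  have h0 : x * (1 - x * b) = 0 := by linear_combination hb
  have h1 : 1 - x * b ∈ p := (hp.mem_or_mem (h0 ▸ p.zero_mem)).resolve_left hxp
  simpa using J.add_mem (hle h1) (J.mul_mem_right b hxJ)

lemma isField_localization_of_isMaximal {A : Type*} [CommRing A] [IsReduced A]
    (h : ∀ p : Ideal A, p.IsPrime → p.IsMaximal) (p : Ideal A) [p.IsPrime] :
    IsField (Localization.AtPrime p) := by
  have : IsReduced (Localization.AtPrime p) :=
    inferInstance
  have : Ring.KrullDimLE 0 (Localization.AtPrime p) := by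
    refine .mk₀ fun q hq => ?_
    have hd := (IsLocalization.isPrime_iff_isPrime_disjoint p.primeCompl
      (Localization.AtPrime p) q).mp hq
    have hle : q.comap (algebraMap A (Localization.AtPrime p)) ≤ p := fun x hx => by
      by_contra hxp
      exact Set.disjoint_left.mp hd.2 hxp hx
    have heq := (h _ hd.1).eq_of_le (Ideal.IsPrime.ne_top ‹_›) hle
    have hq' : q = IsLocalRing.maximalIdeal _ := by
      refine le_antisymm (IsLocalRing.le_maximalIdeal hq.ne_top) ?_
      rw [← Localization.AtPrime.map_eq_maximalIdeal, Ideal.map_le_iff_le_comap]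
      exact heq.ge
    rw [hq']
    infer_instance
  exact Ring.KrullDimLE.isField_of_isReduced

lemma flat_of_isField_localization {A : Type u} [CommRing A]
    (h : ∀ (p : Ideal A) [p.IsMaximal], IsField (Localization.AtPrime p))
    (M : Type v) [AddCommGroup M] [Module A M] : Module.Flat A M := by
  refine Module.flat_of_localized_maximal M fun P _ => ?_
  let _ := (h P).toField
  have : Module.Flat (Localization.AtPrime P) (LocalizedModule P.primeCompl M) :=
    Module.Flat.of_free
  exact Module.Flat.trans A (Localization.AtPrime P) _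

lemma IsVNR.flat {A : Type u} [CommRing A] (h : IsVNR A) (M : Type v) [AddCommGroup M]
    [Module A M] : Module.Flat A M := by
  have := h.isReduced
  exact flat_of_isField_localization
    (fun p _ => isField_localization_of_isMaximal (fun q hq => h.isMaximal q) p) M

lemma isVNR_of_flat {A : Type u} [CommRing A]
    (h : ∀ (M : Type u) [AddCommGroup M] [Module A M], Module.Flat A M) : IsVNR A := by
  intro a
  have : (Ideal.span {a}).Pure := h _
  obtain ⟨y, hy, he⟩ := Ideal.exists_eq_mul_of_pure (I := Ideal.span {a})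
    (Ideal.mem_span_singleton_self a)
  obtain ⟨b, rfl⟩ := Ideal.mem_span_singleton.mp hy
  exact ⟨b, by rw [mul_assoc]; exact he⟩

lemma isVNR_pi {ι : Type*} (K : ι → Type*) [∀ i, Field (K i)] : IsVNR (∀ i, K i) := by
  intro a
  refine ⟨fun i => (a i)⁻¹, funext fun i => ?_⟩
  simp

/-- For an ideal all of whose elements have a unit inside it, finitely many elements have a common one. -/
lemma exists_common_unit {T : Type*} [CommRing T] {K : Ideal T}
    (hK : ∀ x ∈ K, ∃ y ∈ K, x = x * y) (s : Finset T) (hs : ∀ x ∈ s, x ∈ K) :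
    ∃ e ∈ K, ∀ x ∈ s, x = x * e := by
  classical
  induction s using Finset.induction_on with
  | empty => exact ⟨0, K.zero_mem, by simp⟩
  | insert a t ha ih =>
    obtain ⟨e, he, hte⟩ := ih fun x hx => hs x (Finset.mem_insert_of_mem hx)
    obtain ⟨f, hf, haf⟩ := hK a (hs a (Finset.mem_insert_self a t))
    refine ⟨e + f - e * f, K.sub_mem (K.add_mem he hf) (K.mul_mem_right _ he), ?_⟩
    intro x hx
    rcases Finset.mem_insert.mp hx with rfl | hx
    · linear_combination (1 - e) * haf
    · linear_combination (1 - f) * (hte x hx)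

section

variable {A : Type*} [CommRing A] {B : Type*} [CommRing B] [Algebra A B]

/-- the action of `B ⊗ B` on `P ⊗ N` -/
noncomputable def act (P N : Type*) [AddCommGroup P] [Module A P] [Module B P] [IsScalarTower A B P]
    [AddCommGroup N] [Module A N] [Module B N] [IsScalarTower A B N] :
    B ⊗[A] B →ₐ[A] Module.End A (P ⊗[A] N) :=
  (Module.endTensorEndAlgHom (R := A) (S := A) (A := A) (M := P) (N := N)).comp
    (Algebra.TensorProduct.map (Algebra.lsmul A A P) (Algebra.lsmul A A N))

variable {P Q N : Type*} [AddCommGroup P] [Module A P] [Module B P] [IsScalarTower A B P]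
  [AddCommGroup Q] [Module A Q] [Module B Q] [IsScalarTower A B Q]
  [AddCommGroup N] [Module A N] [Module B N] [IsScalarTower A B N]

@[simp]
lemma act_tmul (b c : B) (p : P) (n : N) :
    act P N (b ⊗ₜ[A] c) (p ⊗ₜ[A] n) = (b • p) ⊗ₜ[A] (c • n) := by
  simp [act, Module.endTensorEndAlgHom_apply]

lemma act_rTensor (f : P →ₗ[B] Q) (t : B ⊗[A] B) (z : P ⊗[A] N) :
    (f.restrictScalars A).rTensor N (act P N t z) =
      act Q N t ((f.restrictScalars A).rTensor N z) := by
  induction z with
  | zero => simp
  | add x y hx hy => simp only [map_add, hx, hy]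
  | tmul p n =>
    induction t with
    | zero => simp
    | add x y hx hy => simp only [map_add, LinearMap.add_apply, hx, hy]
    | tmul b c => simp

/-- `P ⊗[A] N → P ⊗[B] N` -/
noncomputable def toB (P N : Type*) [AddCommGroup P] [Module A P] [Module B P]
    [IsScalarTower A B P]
    [AddCommGroup N] [Module A N] [Module B N] [IsScalarTower A B N] :
    P ⊗[A] N →ₗ[A] P ⊗[B] N :=
  (TensorProduct.mapOfCompatibleSMul B A A P N).restrictScalars A

@[simp]
lemma toB_tmul (p : P) (n : N) : toB (A := A) (B := B) P N (p ⊗ₜ[A] n) = p ⊗ₜ[B] n := by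
  simp [toB]

lemma toB_act (t : B ⊗[A] B) (z : P ⊗[A] N) :
    toB (B := B) P N (act P N t z) =
      Algebra.TensorProduct.lmul' A (S := B) t • toB (B := B) P N z := by
  induction z with
  | zero => simp
  | add x y hx hy => simp only [map_add, smul_add, hx, hy]
  | tmul p n =>
    induction t with
    | zero => simp
    | add x y hx hy => simp only [map_add, add_smul, LinearMap.add_apply, hx, hy]
    | tmul b c =>
      simp [TensorProduct.smul_tmul', TensorProduct.tmul_smul, smul_smul, mul_comm]

/-- kernel of `toB`, described through the action of the diagonal ideal -/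
lemma toB_eq_zero {z : P ⊗[A] N} (hz : toB (A := A) (B := B) P N z = 0) :
    z ∈ Submodule.span A {w | ∃ t ∈ RingHom.ker (Algebra.TensorProduct.lmul' A (S := B)),
      ∃ z', act P N t z' = w} := by
  set W := Submodule.span A {w | ∃ t ∈ RingHom.ker (Algebra.TensorProduct.lmul' A (S := B)),
      ∃ z', act (B := B) P N t z' = w}
  have key : ∀ (b : B) (p : P) (n : N),
      W.mkQ ((b • p) ⊗ₜ[A] n) = W.mkQ (p ⊗ₜ[A] (b • n)) := by
    intro b p n
    rw [← sub_eq_zero, ← map_sub, Submodule.mkQ_apply, Submodule.Quotient.mk_eq_zero]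
    refine Submodule.subset_span ⟨b ⊗ₜ 1 - 1 ⊗ₜ b, by simp, p ⊗ₜ n, by simp⟩
  let L : P ⊗[B] N →+ (P ⊗[A] N) ⧸ W := TensorProduct.liftAddHom
    { toFun := fun p =>
        { toFun := fun n => W.mkQ (p ⊗ₜ[A] n)
          map_zero' := by simp
          map_add' := by intro a b; simp [tmul_add] }
      map_zero' := by ext; simp
      map_add' := by intro a b; ext; simp [add_tmul] }
    (fun b p n => key b p n)
  have : ∀ w : P ⊗[A] N, L (toB (A := A) (B := B) P N w) = W.mkQ w := by
    intro w
    induction w with
    | zero => simp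
    | add x y hx hy => simp only [map_add, hx, hy]
    | tmul p n => simp [L]
  have := this z
  rw [hz, map_zero] at this
  exact (Submodule.Quotient.mk_eq_zero W).mp this.symm

/-- A `B`-module which is flat over `A` is flat over `B` if `B ⊗[A] B → B` is flat. -/
theorem flat_of_flat_lmul' (h : (Algebra.TensorProduct.lmul' A (S := B)).Flat) [Module.Flat A N] :
    Module.Flat B N := by
  classical
  set μ := (Algebra.TensorProduct.lmul' A (S := B))
  have hK : ∀ x ∈ RingHom.ker μ, ∃ y ∈ RingHom.ker μ, x = x * y := by
    have : (RingHom.ker μ).Pure := by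
      let _ := μ.toRingHom.toAlgebra
      have : Module.Flat (B ⊗[A] B) B := h
      have hs : Function.Surjective μ := fun b => ⟨b ⊗ₜ 1, by simp [μ]⟩
      exact Module.Flat.of_linearEquiv (Ideal.quotientKerAlgEquivOfSurjective
        (f := Algebra.ofId (B ⊗[A] B) B) hs).toLinearEquiv
    exact fun x hx => Ideal.exists_eq_mul_of_pure hx
  rw [Module.Flat.iff_rTensor_injective']
  intro J
  rw [injective_iff_map_eq_zero]
  intro s
  obtain ⟨z, rfl⟩ : ∃ z, toB (A := A) (B := B) J N z = s := by
    induction s with
    | zero => exact ⟨0, map_zero _⟩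
    | tmul p n => exact ⟨p ⊗ₜ n, by simp⟩
    | add x y hx hy =>
      obtain ⟨a, rfl⟩ := hx
      obtain ⟨b, rfl⟩ := hy
      exact ⟨a + b, map_add _ _ _⟩
  intro hs
  have hcomm : ∀ w : J ⊗[A] N, toB (A := A) (B := B) B N ((J.subtype.restrictScalars A).rTensor N w) =
      J.subtype.rTensor N (toB (A := A) (B := B) J N w) := by
    intro w
    induction w with
    | zero => simp
    | add x y hx hy => simp only [map_add, hx, hy]
    | tmul p n => simp
  have hz := toB_eq_zero (A := A) (B := B) ((hcomm z).trans hs)
  have : ∃ S : Finset (B ⊗[A] B), (∀ t ∈ S, t ∈ RingHom.ker μ) ∧ ∀ e : B ⊗[A] B,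
      (∀ t ∈ S, t = t * e) →
        act B N (1 - e) ((J.subtype.restrictScalars A).rTensor N z) = 0 := by
    refine Submodule.span_induction ?_ ?_ ?_ ?_ hz
    · rintro w ⟨t, ht, z', rfl⟩
      refine ⟨{t}, by simpa using ht, fun e he => ?_⟩
      rw [← Module.End.mul_apply, ← map_mul, sub_mul, one_mul, mul_comm e,
        ← he t (by simp), sub_self, map_zero, LinearMap.zero_apply]
    · exact ⟨∅, by simp, fun e _ => map_zero _⟩
    · rintro x y - - ⟨S, hS, hx⟩ ⟨T, hT, hy⟩
      refine ⟨S ∪ T, fun t ht => (Finset.mem_union.mp ht).elim (hS t) (hT t), fun e he => ?_⟩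
      rw [map_add, hx e fun t ht => he t (Finset.mem_union_left _ ht),
        hy e fun t ht => he t (Finset.mem_union_right _ ht), add_zero]
    · rintro a x - ⟨S, hS, hx⟩
      exact ⟨S, hS, fun e he => by rw [map_smul, hx e he, smul_zero]⟩
  obtain ⟨S, hS, hS'⟩ := this
  obtain ⟨e, he, hSe⟩ := exists_common_unit hK S hS
  have h1 : act (B := B) J N (1 - e) z = 0 := by
    apply Module.Flat.rTensor_preserves_injective_linearMap (M := N)
      (J.subtype.restrictScalars A) J.injective_subtype
    rw [map_zero, act_rTensor]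
    exact hS' e hSe
  have h2 := congrArg (toB (A := A) (B := B) J N) h1
  rw [toB_act, map_zero, map_sub, map_one, (RingHom.mem_ker).mp he, sub_zero, one_smul] at h2
  exact h2

end

lemma flat_of_surjective {R S : Type*} [CommRing R] [CommRing S] [Algebra R S]
    (hs : Function.Surjective (algebraMap R S)) (M : Type*) [AddCommGroup M] [Module R M]
    [Module S M] [IsScalarTower R S M] [Module.Flat R M] : Module.Flat S M := by
  refine flat_of_flat_lmul' (A := R) (RingHom.Flat.of_bijective ?_)
  refine ⟨fun x y hxy => ?_, fun b => ⟨b ⊗ₜ 1, by simp⟩⟩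
  have : ∀ z : S ⊗[R] S, z = Algebra.TensorProduct.lmul' R z ⊗ₜ 1 := by
    intro z
    induction z with
    | zero => simp
    | add x y hx hy => rw [map_add, add_tmul, ← hx, ← hy]
    | tmul a b =>
      obtain ⟨r, rfl⟩ := hs b
      rw [Algebra.TensorProduct.lmul'_apply_tmul, Algebra.algebraMap_eq_smul_one, mul_smul_comm,
        mul_one, TensorProduct.smul_tmul]
  rw [this x, this y]
  exact congrArg (· ⊗ₜ[R] (1 : S)) hxy

lemma flat_of_comp_surjective {R S T : Type*} [CommRing R] [CommRing S] [CommRing T] (f : R →+* S)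
    (g : S →+* T) (hf : Function.Surjective f) (h : (g.comp f).Flat) : g.Flat := by
  algebraize [f, g, g.comp f]
  exact flat_of_surjective (R := R) hf T

lemma weaklyEtale_of_tower (A B C : Type*) [CommRing A] [CommRing B] [CommRing C]
    [Algebra A B] [Algebra A C] [Algebra B C] [IsScalarTower A B C] [Algebra.WeaklyEtale A B]
    [Algebra.WeaklyEtale A C] : Algebra.WeaklyEtale B C where
  flat := flat_of_flat_lmul' (Algebra.WeaklyEtale.flat_lmul' A B)
  flat_lmul' := by
    let π : C ⊗[A] C →ₐ[A] C ⊗[B] C := Algebra.TensorProduct.lift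
      ((Algebra.TensorProduct.includeLeft (R := B) (S := B) (A := C) (B := C)).restrictScalars A)
      ((Algebra.TensorProduct.includeRight (R := B) (A := C) (B := C)).restrictScalars A) (fun x y => Commute.all _ _)
    have hπ : Function.Surjective π := by
      intro z
      induction z with
      | zero => exact ⟨0, map_zero _⟩
      | add x y hx hy =>
        obtain ⟨a, rfl⟩ := hx
        obtain ⟨b, rfl⟩ := hy
        exact ⟨a + b, map_add _ _ _⟩
      | tmul a b => exact ⟨a ⊗ₜ b, by simp [π]⟩
    refine flat_of_comp_surjective π.toRingHom (Algebra.TensorProduct.lmul' B (S := C)).toRingHom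
      hπ ?_
    have : (Algebra.TensorProduct.lmul' B (S := C)).toRingHom.comp π.toRingHom =
        (Algebra.TensorProduct.lmul' A (S := C)).toRingHom := by
      refine RingHom.ext fun z => ?_
      induction z with
      | zero => simp
      | add x y hx hy => simp only [map_add, hx, hy]
      | tmul a b => simp [π]
    rw [this]
    exact Algebra.WeaklyEtale.flat_lmul' A C

/-- Weakly étale algebras over an absolutely flat ring are absolutely flat. -/
lemma IsVNR.of_weaklyEtale {A : Type u} [CommRing A] (h : IsVNR A) (B : Type v) [CommRing B]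
    [Algebra A B] [Algebra.WeaklyEtale A B] : IsVNR B := by
  refine isVNR_of_flat fun M _ _ => ?_
  let _ := Module.compHom M (algebraMap A B)
  have : IsScalarTower A B M := ⟨fun a b m => by
    rw [Algebra.smul_def, mul_smul]; rfl⟩
  have := h.flat M
  exact flat_of_flat_lmul' (Algebra.WeaklyEtale.flat_lmul' A B)

end Groth.Agent.WEtale
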