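import Groth.Agent.WEtale.Field
import Groth.Agent.Hensel.Local
import Groth.Agent.S9633
import Mathlib.RingTheory.Flat.EquationalCriterion
import Mathlib.RingTheory.Flat.FaithfullyFlat.Descent
import Mathlib.RingTheory.Valuation.LocalSubring
import Mathlib.RingTheory.Localization.Integral
import Mathlib.FieldTheory.IsAlgClosed.AlgebraicClosure
import Mathlib.FieldTheory.IsSepClosed

/-!
# Olivier's theorem: weakly étale local algebras over strictly henselian local rings
-/

set_option autoImplicit false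
set_option backward.isDefEq.respectTransparency false

universe u

open TensorProduct

namespace Groth.Agent.WEtale.Olivier

/-- a ring in which finitely generated ideals and annihilators of elements are generated by
idempotents up to a principal generator: submodules of flat modules are then flat -/
theorem flat_of_injective {P : Type u} [CommRing P] [IsBezout P]
    (hann : ∀ g : P, ∃ e, g * e = g ∧ ∀ p, g * p = 0 → e * p = 0)
    {F N : Type u} [AddCommGroup F] [Module P F] [Module.Flat P F] [AddCommGroup N] [Module P N]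
    (i : N →ₗ[P] F) (hi : Function.Injective i) : Module.Flat P N := by
  rw [Module.Flat.iff_forall_isTrivialRelation]
  intro l f x hfx
  obtain ⟨g, hg⟩ := (IsBezout.isPrincipal_of_FG (Ideal.span (Set.range f))
    (Submodule.fg_span (Set.finite_range f))).principal
  have hg' : Ideal.span (Set.range f) = Ideal.span {g} := hg
  obtain ⟨d, hd⟩ := Ideal.mem_span_range_iff_exists_fun.mp
    (hg'.ge (Ideal.mem_span_singleton_self g))
  choose c hc using fun j => Ideal.mem_span_singleton'.mp
    (hg'.le (Ideal.subset_span (Set.mem_range_self j)) : f j ∈ Ideal.span {g})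
  obtain ⟨e, hge, he⟩ := hann g
  have hw : e • ∑ j, c j • x j = 0 := by
    apply hi
    have h0 : g • i (∑ j, c j • x j) = 0 := by
      rw [← map_smul, Finset.smul_sum]
      simp_rw [smul_smul, mul_comm g, hc, hfx, map_zero]
    obtain ⟨k, a, y, hy, ha⟩ := Module.Flat.isTrivialRelation_of_sum_smul_eq_zero (f := fun _ : Fin 1 => g)
      (x := fun _ => i (∑ j, c j • x j)) (by simpa using h0)
    rw [map_smul, map_zero, show i (∑ j, c j • x j) = _ from hy 0, Finset.smul_sum]
    refine Finset.sum_eq_zero fun j _ => ?_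
    rw [smul_smul, he _ (by simpa using ha j), zero_smul]
  refine ⟨l, fun i' j => (if i' = j then 1 else 0) - d i' * (c j * e), x, fun i' => ?_, fun j => ?_⟩
  · simp_rw [sub_smul, Finset.sum_sub_distrib, ite_smul, one_smul, zero_smul, Finset.sum_ite_eq,
      Finset.mem_univ, if_true, ← smul_smul, ← Finset.smul_sum, smul_comm _ e, ← Finset.smul_sum]
    rw [hw, smul_zero, sub_zero]
  · simp_rw [mul_sub, Finset.sum_sub_distrib, mul_ite, mul_one, mul_zero, Finset.sum_ite_eq',
      Finset.mem_univ, if_true]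
    rw [show ∑ i', f i' * (d i' * (c j * e)) = g * (c j * e) by
      rw [← hd, Finset.sum_mul]
      exact Finset.sum_congr rfl fun _ _ => by ring]
    rw [show g * (c j * e) = c j * (g * e) by ring, hge, hc, sub_self]

/-- `b² = ab` with `a` regular forces `b ∈ (a)`, as soon as `(a, b)` is flat -/
theorem mem_span_of_flat {C : Type u} [CommRing C] {a b : C}
    (hflat : Module.Flat C (Ideal.span {a, b} : Ideal C)) (ha : ∀ x, a * x = 0 → x = 0)
    (hb : b * b = a * b) : b ∈ Ideal.span {a} := by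
  let I : Ideal C := Ideal.span {a, b}
  let A' : I := ⟨a, Ideal.subset_span (by simp)⟩
  let B' : I := ⟨b, Ideal.subset_span (by simp)⟩
  obtain ⟨k, m, y, hy, hm⟩ := Module.Flat.isTrivialRelation_of_sum_smul_eq_zero (f := ![a, -b]) (x := ![B', A'])
    (by ext; simp [A', B', Fin.sum_univ_two, mul_comm a b])
  have hm' : ∀ j, a * m 0 j = b * m 1 j := fun j => by
    have := hm j
    simp [Fin.sum_univ_two] at this
    linear_combination this
  choose r s hrs using fun j => Ideal.mem_span_pair.mp (y j).2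
  have hsum : ∀ i, ((![B', A'] i : I) : C) = ∑ j, m i j * (r j * a + s j * b) := fun i => by
    rw [hy i, Submodule.coe_sum]
    exact Finset.sum_congr rfl fun j _ => by rw [hrs, Submodule.coe_smul, smul_eq_mul]
  have h1 : ∑ j, (m 1 j * r j + m 0 j * s j) = 1 := by
    refine sub_eq_zero.mp (ha _ ?_)
    have : a = ∑ j, m 1 j * (r j * a + s j * b) := hsum 1
    rw [mul_sub, mul_one, Finset.mul_sum, sub_eq_zero]
    conv_rhs => rw [this]
    exact Finset.sum_congr rfl fun j _ => by linear_combination s j * hm' j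
  have hp : ∀ j, b * m 0 j = a * m 0 j := fun j => by
    refine sub_eq_zero.mp (ha _ ?_)
    linear_combination b * hm' j + m 1 j * hb - a * hm' j
  refine Ideal.mem_span_singleton'.mpr ⟨∑ j, (m 0 j * r j + m 0 j * s j), ?_⟩
  conv_rhs => rw [← mul_one b, ← h1, Finset.mul_sum]
  rw [Finset.sum_mul]
  exact Finset.sum_congr rfl fun j _ => by linear_combination r j * hm' j - s j * hp j

/-- an integral domain over a henselian local ring is local -/
theorem isLocalRing_of_isIntegral {A R : Type u} [CommRing A] [HenselianLocalRing A] [CommRing R]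
    [IsDomain R] [Algebra A R] [Algebra.IsIntegral A R] : IsLocalRing R := by
  let m := IsLocalRing.maximalIdeal A
  let J := m.map (algebraMap A R)
  have hR : ∀ M : Ideal R, M.IsMaximal → J ≤ M := fun M hM =>
    Ideal.map_le_iff_le_comap.mpr (IsLocalRing.eq_maximalIdeal
      (Ideal.isMaximal_comap_of_isIntegral_of_isMaximal M)).ge
  obtain ⟨M₀, hM₀⟩ := Ideal.exists_maximal R
  refine IsLocalRing.of_unique_max_ideal ⟨M₀, hM₀, fun M hM => by_contra fun hne => ?_⟩
  have hmax : ∀ q : Ideal (R ⧸ J), q.IsPrime → q.IsMaximal := fun q hq => by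
    have h1 : m ≤ (q.comap (Ideal.Quotient.mk J)).comap (algebraMap A R) := fun a ha => by
      rw [Ideal.mem_comap, Ideal.mem_comap,
        Ideal.Quotient.eq_zero_iff_mem.mpr (Ideal.mem_map_of_mem _ ha)]
      exact zero_mem _
    have h2 : (q.comap (Ideal.Quotient.mk J)).IsMaximal :=
      Ideal.isMaximal_of_isIntegral_of_isMaximal_comap _
        ((IsLocalRing.maximalIdeal.isMaximal A).eq_of_le (Ideal.IsPrime.ne_top inferInstance) h1 ▸
          IsLocalRing.maximalIdeal.isMaximal A)
    rw [← Ideal.map_comap_of_surjective _ Ideal.Quotient.mk_surjective q]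
    exact (Ideal.map_eq_top_or_isMaximal_of_surjective _ Ideal.Quotient.mk_surjective h2).resolve_left
      (by rw [Ideal.map_comap_of_surjective _ Ideal.Quotient.mk_surjective]; exact hq.ne_top)
  obtain ⟨_, _, htd⟩ := ((Groth.Agent.S9633.result (R := R ⧸ J)).out 5 0).mp hmax
  have hp : ∀ (N : Ideal R) (hN : N.IsMaximal), ∃ P : PrimeSpectrum (R ⧸ J),
      PrimeSpectrum.comap (Ideal.Quotient.mk J) P = ⟨N, hN.isPrime⟩ := fun N hN => by
    refine Set.mem_range.mp ?_
    rw [range_comap_of_surjective _ _ Ideal.Quotient.mk_surjective, Ideal.mk_ker]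
    exact hR N hN
  obtain ⟨P₁, hP₁⟩ := hp M hM
  obtain ⟨P₂, hP₂⟩ := hp M₀ hM₀
  have hP : P₁ ≠ P₂ := fun h => hne (congrArg PrimeSpectrum.asIdeal (hP₁.symm.trans (h ▸ hP₂)))
  obtain ⟨U, hU, hU1, hU2⟩ := exists_isClopen_of_totally_separated hP
  obtain ⟨ε, hε, hUε⟩ := PrimeSpectrum.isClopen_iff.mp hU
  obtain ⟨e, he, hee⟩ :=
    (Hensel.idempotents_bijOn (Hensel.gabberRoot_of_henselianLocalRing (R := A)) R).surjOn
      (show ε ∈ {e : R ⧸ J | IsIdempotentElem e} from hε)
  have hee' : Ideal.Quotient.mk J e = ε := hee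
  rw [hUε] at hU1 hU2
  rcases IsIdempotentElem.iff_eq_zero_or_one.mp he with rfl | rfl
  · exact hU1 (by rw [← hee', map_zero]; exact zero_mem _)
  · exact hU2 (show ε ∉ P₂.asIdeal by rw [← hee', map_one]; exact P₂.2.one_notMem)

/-- reduction step: elements agree with scalars modulo the maximal ideal -/
theorem exists_sub_mem {A B : Type u} [CommRing A] [IsLocalRing A] [CommRing B] [IsLocalRing B]
    [IsSepClosed (IsLocalRing.ResidueField A)] [Algebra A B] [IsLocalHom (algebraMap A B)]
    [Algebra.WeaklyEtale A B] (b : B) :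
    ∃ a, b - algebraMap A B a ∈ (IsLocalRing.maximalIdeal A).map (algebraMap A B) := by
  let m := IsLocalRing.maximalIdeal A
  let k := IsLocalRing.ResidueField A
  let J := m.map (algebraMap A B)
  have hne : J ≠ ⊤ := fun h => (IsLocalRing.maximalIdeal.isMaximal B).ne_top <| eq_top_iff.mpr <|
    h.ge.trans (Ideal.map_le_iff_le_comap.mpr (IsLocalRing.maximalIdeal_comap (algebraMap A B)).ge)
  let D := k ⊗[A] B
  let L := IsLocalRing.ResidueField B
  let φ : D →ₐ[k] L := Algebra.TensorProduct.lift (Algebra.ofId k L)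
    (IsScalarTower.toAlgHom A B L) (fun _ _ => Commute.all _ _)
  have hv : IsVNR D := (isVNR_of_field k).of_weaklyEtale D
  have hs : Function.Surjective φ := fun x => by
    obtain ⟨y, rfl⟩ := IsLocalRing.residue_surjective x
    exact ⟨1 ⊗ₜ y, by
      change algebraMap k L 1 * algebraMap B L y = _
      rw [map_one, one_mul]; rfl⟩
  have := weaklyEtale_quotient φ hs
  have := isSeparable_of_field (K := k) (L := L)
  obtain ⟨r, hr⟩ := IsSepClosed.algebraMap_surjective k L (IsLocalRing.residue B b)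
  obtain ⟨a, rfl⟩ := IsLocalRing.residue_surjective r
  refine ⟨a, ?_⟩
  set c := b - algebraMap A B a
  have hc : c ∈ IsLocalRing.maximalIdeal B := by
    rw [← IsLocalRing.residue_eq_zero_iff, map_sub, ← hr, sub_eq_zero]
    rfl
  -- absolute flatness of the fibre
  obtain ⟨z, hz⟩ := hv (1 ⊗ₜ c)
  let q : D →ₐ[A] B ⧸ J := Algebra.TensorProduct.lift
    (Ideal.Quotient.liftₐ m ((Ideal.Quotient.mkₐ A J).comp (Algebra.ofId A B)) fun x hx =>
      Ideal.Quotient.eq_zero_iff_mem.mpr (Ideal.mem_map_of_mem _ hx))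
    (Ideal.Quotient.mkₐ A J) (fun _ _ => Commute.all _ _)
  have hq : q (1 ⊗ₜ c) = Ideal.Quotient.mk J c := by
    dsimp only [q]
    rw [Algebra.TensorProduct.lift_tmul, map_one, one_mul]
    rfl
  obtain ⟨z', hz'⟩ := Ideal.Quotient.mk_surjective (q z)
  have hcz : c - c * c * z' ∈ J := by
    rw [← Ideal.Quotient.eq_zero_iff_mem, map_sub, map_mul, map_mul, hz', ← hq, ← map_mul, ← map_mul,
      ← hz, sub_self]
  obtain ⟨u, hu⟩ : IsUnit (1 - c * z') := by
    refine (IsLocalRing.notMem_maximalIdeal).mp fun h => (IsLocalRing.maximalIdeal.isMaximal B).ne_top ?_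
    rw [Ideal.eq_top_iff_one]
    simpa using add_mem h (Ideal.mul_mem_right z' _ hc)
  have : c = (c - c * c * z') * ↑u⁻¹ := by
    rw [show c - c * c * z' = c * (1 - c * z') by ring, ← hu, mul_assoc, Units.mul_inv, mul_one]
  rw [this]
  exact Ideal.mul_mem_right _ _ hcz

theorem bezout_of_valuationRings {ι : Type u} (R : ι → Type u) [∀ i, CommRing (R i)]
    [∀ i, IsDomain (R i)] [∀ i, ValuationRing (R i)] : IsBezout (∀ i, R i) := by
  classical
  rw [IsBezout.iff_span_pair_isPrincipal]
  intro x y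
  let p : ∀ i, R i := fun i => if x i ∣ y i then 1 else 0
  let z := p * x + (1 - p) * y
  refine ⟨⟨z, ?_⟩⟩
  have key : ∀ i, z i ∣ x i ∧ z i ∣ y i := fun i => by
    by_cases h : x i ∣ y i
    · simp [z, p, h]
    · simp [z, p, h, (ValuationRing.dvd_total (x i) (y i)).resolve_left h]
  choose u hu using fun i => (key i).1
  choose v hv using fun i => (key i).2
  refine le_antisymm (Ideal.span_le.mpr ?_) (Ideal.span_le.mpr ?_)
  · rintro w (rfl | rfl)
    · exact Ideal.mem_span_singleton'.mpr ⟨u, funext fun i => by rw [Pi.mul_apply, hu i, mul_comm]⟩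
    · exact Ideal.mem_span_singleton'.mpr ⟨v, funext fun i => by rw [Pi.mul_apply, hv i, mul_comm]⟩
  · rintro w rfl
    exact Ideal.mem_span_pair.mpr ⟨p, 1 - p, rfl⟩

section Omega

variable {A B : Type u} [CommRing A] [HenselianLocalRing A] [CommRing B] [IsLocalRing B]
  [IsSepClosed (IsLocalRing.ResidueField A)] [Algebra A B] [IsLocalHom (algebraMap A B)]
  [Algebra.WeaklyEtale A B]

variable (C : Type u) [CommRing C] [IsDomain C] [Algebra A C] [Algebra.IsIntegral A C] in
theorem isLocalRing_tensor : IsLocalRing (C ⊗[A] B) := by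
  have : IsLocalRing C := isLocalRing_of_isIntegral (A := A)
  let m := IsLocalRing.maximalIdeal A
  have hmA : m.map (algebraMap A C) ≤ IsLocalRing.maximalIdeal C :=
    Ideal.map_le_iff_le_comap.mpr (IsLocalRing.eq_maximalIdeal
      (Ideal.isMaximal_comap_of_isIntegral_of_isMaximal (IsLocalRing.maximalIdeal C))).ge
  have : Algebra.IsIntegral B (B ⊗[A] C) := inferInstance
  let K := (IsLocalRing.maximalIdeal B).map
    (Algebra.TensorProduct.includeRight (R := A) (A := C) (B := B)).toRingHom
  -- every element is a scalar modulo the ideal of the maximal ideal of `B`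
  let i := Algebra.TensorProduct.includeLeft (R := A) (S := C) (A := C) (B := B)
  have hdec : ∀ z : C ⊗[A] B, ∃ x : C, z - i x ∈ (m.map (algebraMap A (C ⊗[A] B))) := by
    intro z
    induction z with
    | zero => exact ⟨0, by simp⟩
    | add z w hz hw =>
      obtain ⟨x, hx⟩ := hz
      obtain ⟨y, hy⟩ := hw
      exact ⟨x + y, by rw [map_add, add_sub_add_comm]; exact add_mem hx hy⟩
    | tmul x b =>
      obtain ⟨a, ha⟩ := exists_sub_mem (A := A) b
      refine ⟨algebraMap A C a * x, ?_⟩
      have : x ⊗ₜ[A] b - i (algebraMap A C a * x) =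
          (x ⊗ₜ[A] (1 : B)) * Algebra.TensorProduct.includeRight (b - algebraMap A B a) := by
        simp only [i, Algebra.TensorProduct.includeLeft_apply, Algebra.TensorProduct.includeRight_apply,
          Algebra.TensorProduct.tmul_mul_tmul, mul_one, one_mul, TensorProduct.tmul_sub]
        rw [mul_sub, Algebra.TensorProduct.tmul_mul_tmul, Algebra.TensorProduct.tmul_mul_tmul, mul_one]
        rw [← Algebra.smul_def, Algebra.algebraMap_eq_smul_one, TensorProduct.smul_tmul, one_mul, one_mul]
      rw [this]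
      refine Ideal.mul_mem_left _ _ ?_
      have h2 : m.map (algebraMap A B) ≤ (m.map (algebraMap A (C ⊗[A] B))).comap
          (Algebra.TensorProduct.includeRight (R := A) (A := C) (B := B)) :=
        Ideal.map_le_iff_le_comap.mpr fun a ha => by
          rw [Ideal.mem_comap, Ideal.mem_comap, AlgHom.commutes]
          exact Ideal.mem_map_of_mem _ ha
      exact h2 ha
  have hmax : ∀ N : Ideal (C ⊗[A] B), N.IsMaximal → m.map (algebraMap A (C ⊗[A] B)) ≤ N ∧
      N.comap i = IsLocalRing.maximalIdeal C := by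
    intro N hN
    let N' := N.comap (Algebra.TensorProduct.comm A B C).toRingEquiv.toRingHom
    have hN' : N'.IsMaximal :=
      Ideal.comap_isMaximal_of_surjective _ (Algebra.TensorProduct.comm A B C).surjective
    have hB := IsLocalRing.eq_maximalIdeal
      (Ideal.isMaximal_comap_of_isIntegral_of_isMaximal (R := B) N')
    have hm : m.map (algebraMap A (C ⊗[A] B)) ≤ N := by
      refine Ideal.map_le_iff_le_comap.mpr fun a ha => ?_
      have h1 : algebraMap A B a ∈ N'.comap (algebraMap B (B ⊗[A] C)) := hB.ge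
        ((IsLocalRing.maximalIdeal_comap (algebraMap A B)).ge ha)
      rw [Ideal.mem_comap, Ideal.mem_comap] at h1
      have h2 : Algebra.TensorProduct.comm A B C (algebraMap B (B ⊗[A] C) (algebraMap A B a)) =
          algebraMap A (C ⊗[A] B) a := by
        rw [← IsScalarTower.algebraMap_apply, AlgEquiv.commutes]
      rw [Ideal.mem_comap, ← h2]
      exact h1
    refine ⟨hm, IsLocalRing.eq_maximalIdeal ?_⟩
    refine Ideal.isMaximal_of_isIntegral_of_isMaximal_comap (R := A) _ ?_
    have : m = (N.comap i).comap (algebraMap A C) := by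
      refine (IsLocalRing.maximalIdeal.isMaximal A).eq_of_le (Ideal.IsPrime.ne_top inferInstance)
        fun a ha => ?_
      rw [Ideal.mem_comap, Ideal.mem_comap]
      exact hm (Ideal.mem_map_of_mem _ ha)
    rw [← this]
    exact IsLocalRing.maximalIdeal.isMaximal A
  obtain ⟨N₀, hN₀⟩ : ∃ N : Ideal (C ⊗[A] B), N.IsMaximal := by
    have : Nontrivial (C ⊗[A] B) := by
      have : Module.FaithfullyFlat A B := Module.FaithfullyFlat.of_flat_of_isLocalHom
      exact Module.FaithfullyFlat.rTensor_nontrivial _ _ _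
    exact Ideal.exists_maximal _
  refine IsLocalRing.of_unique_max_ideal ⟨N₀, hN₀, fun N hN => ?_⟩
  refine hN.eq_of_le hN₀.ne_top fun z hz => ?_
  obtain ⟨x, hx⟩ := hdec z
  have h1 : i x ∈ N := by simpa using sub_mem hz ((hmax N hN).1 hx)
  have h2 : i x ∈ N₀ := (hmax N₀ hN₀).2.ge ((hmax N hN).2.le h1)
  simpa using add_mem ((hmax N₀ hN₀).1 hx) h2

variable (Ω : Type u) [Field Ω] [IsAlgClosed Ω] [Algebra A Ω]

theorem algHom_eq (hfrac : ∀ z : Ω, ∃ a x : integralClosure A Ω, a ≠ 0 ∧ (a : Ω) * z = x)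
    (σ₁ σ₂ : B →ₐ[A] Ω) : σ₁ = σ₂ := by
  classical
  let C := integralClosure A Ω
  have : IsLocalRing (C ⊗[A] B) := isLocalRing_tensor C
  let ψ : C ⊗[A] B →ₐ[A] Ω ⊗[A] B := Algebra.TensorProduct.map C.val (AlgHom.id A B)
  have hψ : Function.Injective ψ :=
    Module.Flat.rTensor_preserves_injective_linearMap (M := B) C.val.toLinearMap Subtype.val_injective
  have hden : ∀ f : Ω ⊗[A] B, ∃ a : C, a ≠ 0 ∧ ∃ b, ψ b = algebraMap Ω (Ω ⊗[A] B) a * f := by
    intro f
    induction f with
    | zero => exact ⟨1, one_ne_zero, 0, by simp⟩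
    | add f g hf hg =>
      obtain ⟨a, ha, b, hb⟩ := hf
      obtain ⟨a', ha', b', hb'⟩ := hg
      refine ⟨a * a', mul_ne_zero ha ha', (a' ⊗ₜ[A] (1 : B)) * b + (a ⊗ₜ[A] (1 : B)) * b', ?_⟩
      rw [map_add, map_mul, map_mul, hb, hb', show ψ (a' ⊗ₜ[A] (1 : B)) = algebraMap Ω (Ω ⊗[A] B) a' from rfl,
        show ψ (a ⊗ₜ[A] (1 : B)) = algebraMap Ω (Ω ⊗[A] B) a from rfl, Subalgebra.coe_mul, map_mul]
      ring
    | tmul z y =>
      obtain ⟨a, x, ha, hx⟩ := hfrac z
      refine ⟨a, ha, x ⊗ₜ y, ?_⟩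
      change (x : Ω) ⊗ₜ[A] y = (a : Ω) ⊗ₜ[A] (1 : B) * (z ⊗ₜ[A] y)
      rw [Algebra.TensorProduct.tmul_mul_tmul, one_mul, hx]
  have hv : IsVNR (Ω ⊗[A] B) := (isVNR_of_field Ω).of_weaklyEtale _
  let ι := {V : ValuationSubring Ω // ∀ x : C, (x : Ω) ∈ V}
  let Pr := ∀ V : ι, V.1
  let γ₀ : C →+* Pr := Pi.ringHom fun V => (C.val.toRingHom).codRestrict V.1.toSubring fun x => V.2 x
  let : Algebra A Pr := (γ₀.comp (algebraMap A C)).toAlgebra
  let γ : C →ₐ[A] Pr := { γ₀ with commutes' := fun _ => rfl }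
  have : IsBezout Pr := bezout_of_valuationRings fun V : ι => V.1
  have hann : ∀ g : Pr, ∃ e, g * e = g ∧ ∀ p, g * p = 0 → e * p = 0 := fun g =>
    ⟨fun V => if g V = 0 then 0 else 1, funext fun V => by
      change g V * (if g V = 0 then 0 else 1) = g V
      by_cases h : g V = 0
      · rw [if_pos h, mul_zero, h]
      · rw [if_neg h, mul_one],
      fun p hp => funext fun V => by
        change (if g V = 0 then 0 else 1) * p V = 0
        by_cases h : g V = 0
        · rw [if_pos h, zero_mul]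
        · rw [if_neg h, one_mul, (mul_eq_zero.mp (congrFun hp V : g V * p V = 0)).resolve_left h]⟩
  have hidem : ∀ e : Ω ⊗[A] B, IsIdempotentElem e → e = 0 ∨ e = 1 := by
    intro e he
    obtain ⟨a, ha, b, hb⟩ := hden e
    have hbb : b * b = (a ⊗ₜ[A] (1 : B)) * b := hψ (by
      rw [map_mul, map_mul, hb, show ψ (a ⊗ₜ[A] (1 : B)) = algebraMap Ω (Ω ⊗[A] B) a from rfl]
      linear_combination algebraMap Ω (Ω ⊗[A] B) (a : Ω) * algebraMap Ω (Ω ⊗[A] B) (a : Ω) * he.eq)
    let δ : C ⊗[A] B →ₐ[A] Pr ⊗[A] B := Algebra.TensorProduct.map γ (AlgHom.id A B)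
    have hreg : ∀ z : Pr ⊗[A] B, (γ a ⊗ₜ[A] (1 : B)) * z = 0 → z = 0 := by
      have hmul : ∀ z : Pr ⊗[A] B, (γ a ⊗ₜ[A] (1 : B)) * z =
          (LinearMap.mulLeft A (γ a)).rTensor B z := fun z => by
        induction z with
        | zero => simp
        | add z w hz hw => rw [mul_add, map_add, hz, hw]
        | tmul p y => simp
      intro z hz
      refine Module.Flat.rTensor_preserves_injective_linearMap (M := B) (LinearMap.mulLeft A (γ a))
        (fun p p' hp => funext fun V => ?_) (by rw [← hmul, hz, map_zero])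
      exact mul_left_cancel₀ (fun h => ha (Subtype.ext (congrArg Subtype.val h : (a : Ω) = 0)))
        (congrFun hp V : γ a V * p V = γ a V * p' V)
    let I : Ideal (Pr ⊗[A] B) := Ideal.span {γ a ⊗ₜ[A] (1 : B), δ b}
    have hI : Module.Flat Pr I :=
      flat_of_injective (N := I) (F := Pr ⊗[A] B) hann ((Submodule.subtype I).restrictScalars Pr) Subtype.val_injective
    have hδ : δ b ∈ Ideal.span {γ a ⊗ₜ[A] (1 : B)} := mem_span_of_flat
      (flat_of_flat_lmul' (A := Pr) (Algebra.WeaklyEtale.flat_lmul' Pr (Pr ⊗[A] B))) hreg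
      (by rw [← map_mul, hbb, map_mul]; rfl)
    -- descend along the intersection of valuation rings
    let Q := Pr ⧸ Ideal.span {γ a}
    let θ : C →ₗ[A] Q := ((Ideal.Quotient.mkₐ A (Ideal.span {γ a})).comp γ).toLinearMap
    have hex : Function.Exact (LinearMap.mulLeft A a) θ := fun x => by
      refine ⟨fun hx => ?_, ?_⟩
      · obtain ⟨p, hp⟩ := Ideal.mem_span_singleton'.mp (Ideal.Quotient.eq_zero_iff_mem.mp hx)
        have hmem : (x : Ω) / a ∈ C := by
          by_contra h
          have : IsIntegrallyClosedIn C.toSubring Ω := isIntegrallyClosedIn_iff.mpr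
            ⟨Subtype.val_injective, fun {z} hz => ⟨⟨z, by
              exact isIntegral_trans (R := A) (A := C) z (by exact hz)⟩, rfl⟩⟩
          obtain ⟨V, hV, hxV⟩ := C.toSubring.exists_le_valuationSubring_of_isIntegrallyClosedIn h
          refine hxV ?_
          have hp' : ((p ⟨V, fun x => hV x.2⟩ : V) : Ω) * a = x :=
            congrArg (fun q : Pr => ((q ⟨V, fun x => hV x.2⟩ : V) : Ω)) hp
          rw [← hp', mul_div_cancel_right₀ _ (fun h' => ha (Subtype.ext h'))]
          exact (p ⟨V, fun x => hV x.2⟩).2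
        exact ⟨⟨_, hmem⟩, Subtype.ext (mul_div_cancel₀ _ (fun h' => ha (Subtype.ext h')))⟩
      · rintro ⟨w, rfl⟩
        exact Ideal.Quotient.eq_zero_iff_mem.mpr (Ideal.mem_span_singleton'.mpr ⟨γ w, by
          exact (mul_comm _ _).trans (map_mul γ a w).symm⟩)
    have hker : θ.rTensor B b = 0 := by
      obtain ⟨w, hw⟩ := Ideal.mem_span_singleton'.mp hδ
      have h1 : θ.rTensor B b = Algebra.TensorProduct.map (Ideal.Quotient.mkₐ A (Ideal.span {γ a}))
          (AlgHom.id A B) (δ b) := by
        clear hw hδ hI hbb hb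
        induction b with
        | zero => simp
        | add z w hz hw => simp only [map_add, hz, hw]
        | tmul p y => rfl
      rw [h1, ← hw, map_mul, Algebra.TensorProduct.map_tmul, Ideal.Quotient.mkₐ_eq_mk,
        Ideal.Quotient.eq_zero_iff_mem.mpr (Ideal.mem_span_singleton_self _), TensorProduct.zero_tmul,
        mul_zero]
    obtain ⟨w, hw⟩ := (Module.Flat.rTensor_exact B hex b).mp hker
    have hwb : (a ⊗ₜ[A] (1 : B)) * w = b := by
      rw [← hw]
      clear hw
      induction w with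
      | zero => simp
      | add z w hz hw => rw [mul_add, map_add, hz, hw]
      | tmul p y => simp
    have hea : IsUnit (algebraMap Ω (Ω ⊗[A] B) a) :=
      (IsUnit.mk0 _ fun h => ha (Subtype.ext h)).map _
    have hwe : ψ w = e := hea.mul_left_cancel (by rw [← hb, ← hwb, map_mul]; rfl)
    have hw2 : w * w = w := hψ (by rw [map_mul, hwe, he.eq])
    rcases IsLocalRing.isUnit_or_isUnit_one_sub_self w with hu | hu
    · exact Or.inr (by rw [← hwe, show w = 1 from hu.mul_left_cancel (hw2.trans (mul_one w).symm), map_one])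
    · exact Or.inl (by
        rw [← hwe, show w = 0 from hu.mul_left_cancel (by rw [sub_mul, one_mul, hw2, sub_self, mul_zero]),
          map_zero])
  let φ : (σ : B →ₐ[A] Ω) → Ω ⊗[A] B →ₐ[Ω] Ω := fun σ =>
    Algebra.TensorProduct.lift (AlgHom.id Ω Ω) σ fun _ _ => .all _ _
  have : Nontrivial (Ω ⊗[A] B) := (φ σ₁).toRingHom.domain_nontrivial
  have hfld : IsField (Ω ⊗[A] B) := ⟨exists_pair_ne _, mul_comm, fun {f} hf => by
    obtain ⟨y, hy⟩ := hv f
    rcases hidem (f * y) (by rw [IsIdempotentElem, ← mul_assoc, mul_right_comm f, ← hy]) with h | h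
    · exact absurd (by rw [hy, mul_assoc, h, mul_zero]) hf
    · exact ⟨y, h⟩⟩
  let : Field (Ω ⊗[A] B) := hfld.toField
  have := isSeparable_of_field (K := Ω) (L := Ω ⊗[A] B)
  refine AlgHom.ext fun y => ?_
  obtain ⟨c, hc⟩ := IsSepClosed.algebraMap_surjective Ω (Ω ⊗[A] B) ((1 : Ω) ⊗ₜ[A] y)
  have h : ∀ σ : B →ₐ[A] Ω, σ y = c := fun σ => by
    have := congrArg (φ σ) hc
    rw [AlgHom.commutes] at this
    simpa [φ] using this.symm
  rw [h, h]

set_option synthInstance.maxHeartbeats 4000000 in
theorem bijective : Function.Bijective (algebraMap A B) := by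
  have : Module.FaithfullyFlat A B := Module.FaithfullyFlat.of_flat_of_isLocalHom
  refine Module.FaithfullyFlat.bijective_of_tensorProduct (S := B) (T := B) ?_
  let μ := Algebra.TensorProduct.lmul' A (S := B)
  have hμ : ∀ y, μ (algebraMap B (B ⊗[A] B) y) = y := fun y => by simp [μ]
  refine ⟨fun y z h => by rw [← hμ y, h, hμ], ?_⟩
  have hdiag : ∀ x ∈ RingHom.ker μ, ∀ Q : Ideal (B ⊗[A] B), Q.IsPrime → x ∈ Q := by
    intro x hx Q hQ
    let p := Q.comap (algebraMap A (B ⊗[A] B))
    let Ω := AlgebraicClosure Q.ResidueField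
    let κ := p.ResidueField
    let : Algebra κ Q.ResidueField := (Ideal.ResidueField.map p Q (algebraMap A (B ⊗[A] B)) rfl).toAlgebra
    let Ω₀ := AlgebraicClosure κ
    let π : B ⊗[A] B →ₐ[A] Q.ResidueField := IsScalarTower.toAlgHom A _ _
    have : IsScalarTower A κ Q.ResidueField := IsScalarTower.of_algebraMap_eq fun a => by
      change _ = Ideal.ResidueField.map p Q (algebraMap A (B ⊗[A] B)) rfl (algebraMap A κ a)
      rw [Ideal.ResidueField.map_algebraMap]
      rfl
    have halg : Algebra.IsAlgebraic κ Q.ResidueField := by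
      have : Algebra.WeaklyEtale A (B ⊗[A] B) := Algebra.WeaklyEtale.trans A B _
      have := isIntegral_of_weaklyEtale (K := κ) (B := κ ⊗[A] (B ⊗[A] B))
      let Φ : κ ⊗[A] (B ⊗[A] B) →ₐ[κ] Q.ResidueField :=
        Algebra.TensorProduct.lift (Algebra.ofId κ _) π fun _ _ => .all _ _
      refine ⟨fun z => ?_⟩
      obtain ⟨s, t, ht, rfl⟩ := IsFractionRing.div_surjective (A := (B ⊗[A] B) ⧸ Q) z
      obtain ⟨s, rfl⟩ := Ideal.Quotient.mk_surjective s
      obtain ⟨t, rfl⟩ := Ideal.Quotient.mk_surjective t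
      have h1 : ∀ w, IsIntegral κ (π w) := fun w => by
        have := (Algebra.IsIntegral.isIntegral (R := κ) ((1 : κ) ⊗ₜ[A] w)).map Φ
        simpa [Φ] using this
      rw [div_eq_mul_inv]
      exact ((h1 s).isAlgebraic).mul (h1 t).isAlgebraic.inv
    have : Module.IsTorsionFree κ Q.ResidueField :=
      ⟨fun c hc x y hxy => (IsUnit.mk0 c hc.ne_zero).smul_left_cancel.mp hxy⟩
    let j : Q.ResidueField →ₐ[κ] Ω₀ := IsAlgClosed.lift
    let σ : B ⊗[A] B →ₐ[A] Ω₀ := (j.restrictScalars A).comp π
    have hfrac : ∀ z : Ω₀, ∃ a x : integralClosure A Ω₀, a ≠ 0 ∧ (a : Ω₀) * z = x := fun z => by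
      have : Algebra.IsAlgebraic (A ⧸ p) κ := IsLocalization.isAlgebraic κ (nonZeroDivisors (A ⧸ p))
      have : Algebra.IsAlgebraic (A ⧸ p) Ω₀ := Algebra.IsAlgebraic.trans (A ⧸ p) κ Ω₀
      obtain ⟨c, hc, hint⟩ := (Algebra.IsAlgebraic.isAlgebraic (R := A ⧸ p) z).exists_integral_multiple
      obtain ⟨c, rfl⟩ := Ideal.Quotient.mk_surjective c
      have hne : algebraMap A Ω₀ c ≠ 0 := fun h => by
        rw [IsScalarTower.algebraMap_apply A κ Ω₀, map_eq_zero, Ideal.algebraMap_residueField_eq_zero] at h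
        exact hc (Ideal.Quotient.eq_zero_iff_mem.mpr h)
      refine ⟨⟨_, isIntegral_algebraMap⟩, ⟨algebraMap A Ω₀ c * z, ?_⟩, fun h => hne (congrArg Subtype.val h), rfl⟩
      have : IsIntegral A (Ideal.Quotient.mk p c • z) := isIntegral_trans _ hint
      rwa [Algebra.smul_def, ← Ideal.Quotient.algebraMap_eq, ← IsScalarTower.algebraMap_apply] at this
    have hσ := algHom_eq Ω₀ hfrac (σ.comp Algebra.TensorProduct.includeLeft)
      (σ.comp Algebra.TensorProduct.includeRight)
    have hfac : σ = (σ.comp Algebra.TensorProduct.includeLeft).comp μ := by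
      refine Algebra.TensorProduct.ext' fun s t => ?_
      rw [AlgHom.comp_apply (σ.comp Algebra.TensorProduct.includeLeft) μ,
        show μ (s ⊗ₜ[A] t) = s * t from Algebra.TensorProduct.lmul'_apply_tmul s t, map_mul]
      conv_rhs => arg 2; rw [hσ]
      simp only [AlgHom.comp_apply, Algebra.TensorProduct.includeLeft_apply,
        Algebra.TensorProduct.includeRight_apply, ← map_mul, Algebra.TensorProduct.tmul_mul_tmul,
        mul_one, one_mul]
    have h0 : j (π x) = 0 := by
      change σ x = 0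
      rw [hfac, AlgHom.comp_apply, RingHom.mem_ker.mp hx, map_zero]
    exact (Ideal.algebraMap_residueField_eq_zero (I := Q)).mp ((map_eq_zero j).mp h0)
  intro z
  refine ⟨μ z, sub_eq_zero.mp ?_⟩
  set d := algebraMap B (B ⊗[A] B) (μ z) - z
  have hd : d ∈ RingHom.ker μ := by rw [RingHom.mem_ker, map_sub, hμ, sub_self]
  have hpure : (RingHom.ker μ).Pure := by
    let _ := μ.toRingHom.toAlgebra
    have : Module.Flat (B ⊗[A] B) B := Algebra.WeaklyEtale.flat_lmul' A B
    have hs : Function.Surjective μ := fun b => ⟨b ⊗ₜ 1, by simp [μ]⟩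
    exact Module.Flat.of_linearEquiv (Ideal.quotientKerAlgEquivOfSurjective
      (f := Algebra.ofId (B ⊗[A] B) B) hs).toLinearEquiv
  obtain ⟨y, hy, he⟩ := Ideal.exists_eq_mul_of_pure (I := RingHom.ker μ) hd
  obtain ⟨u, hu⟩ : IsUnit (1 - y) :=
    (nilpotent_iff_mem_prime.mpr fun Q hQ => hdiag y hy Q hQ).isUnit_one_sub
  have h0 : d * ↑u = 0 := by rw [hu, mul_sub, mul_one, ← he, sub_self]
  exact u.mul_left_eq_zero.mp h0

end Omega

end Groth.Agent.WEtale.Olivier
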