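import Groth.Agent.WEtale.Basic
import Mathlib.RingTheory.Flat.FaithfullyFlat.Basic
import Mathlib.RingTheory.RingHom.Flat

/-! Descent of flatness along a faithfully flat `S → T` in a tower `R → S → T`. -/

set_option autoImplicit false

open TensorProduct

namespace Groth.Agent.WEtale

lemma flat_of_faithfullyFlat_tower (R S T : Type*) [CommRing R] [CommRing S] [CommRing T]
    [Algebra R S] [Algebra S T] [Algebra R T] [IsScalarTower R S T]
    [Module.Flat R T] [Module.FaithfullyFlat S T] : Module.Flat R S := by
  rw [Module.Flat.iff_lTensor_injective']
  intro J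
  set f : S ⊗[R] J →ₗ[S] S ⊗[R] R := J.subtype.baseChange S
  suffices Function.Injective f from this
  rw [← Module.FaithfullyFlat.lTensor_injective_iff_injective S T f]
  have h : Function.Injective (J.subtype.lTensor T) :=
    Module.Flat.lTensor_preserves_injective_linearMap _ J.injective_subtype
  set e₁ := AlgebraTensorModule.cancelBaseChange R S S T J
  set e₂ := AlgebraTensorModule.cancelBaseChange R S S T R
  have key : ∀ x, e₂ (f.lTensor T x) = J.subtype.lTensor T (e₁ x) := by
    intro x
    induction x with
    | zero => simp
    | add x y hx hy => simp only [map_add, hx, hy]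
    | tmul t y =>
      induction y with
      | zero => simp
      | add x y hx hy => simp only [map_add, tmul_add, hx, hy]
      | tmul s j => simp [f, e₁, e₂]
  intro x y hxy
  apply e₁.injective
  apply h
  rw [← key, ← key, hxy]

lemma weaklyEtale_of_faithfullyFlat (A B C : Type*) [CommRing A] [CommRing B] [CommRing C]
    [Algebra A B] [Algebra B C] [Algebra A C] [IsScalarTower A B C] [Module.FaithfullyFlat B C]
    [Algebra.WeaklyEtale A C] : Algebra.WeaklyEtale A B where
  flat := flat_of_faithfullyFlat_tower A B C
  flat_lmul' := by
    have hBC : (IsScalarTower.toAlgHom A B C).Flat := by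
      rw [RingHom.Flat]
      convert (inferInstance : Module.Flat B C)
      ext b c
      exact (Algebra.smul_def b c).symm
    have h1 := RingHom.Flat.tensorProductMap (R := A) (S := A) hBC hBC
    let g := Algebra.TensorProduct.map (IsScalarTower.toAlgHom A B C) (IsScalarTower.toAlgHom A B C)
    have h2 := RingHom.Flat.comp h1 (Algebra.WeaklyEtale.flat_lmul' A C)
    let _ := (Algebra.TensorProduct.lmul' A (S := B)).toRingHom.toAlgebra
    let _ := ((Algebra.TensorProduct.lmul' A (S := C)).toRingHom.comp g.toRingHom).toAlgebra
    have ht : IsScalarTower (B ⊗[A] B) B C := by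
      refine @IsScalarTower.of_algebraMap_eq' (B ⊗[A] B) B C _ _ _ _ _ _ ?_
      simp only [RingHom.algebraMap_toAlgebra]
      refine RingHom.ext fun z => ?_
      induction z with
      | zero => simp
      | add x y hx hy => simp only [map_add, hx, hy]
      | tmul a b => simp [g]
    have : Module.Flat (B ⊗[A] B) C := h2
    exact flat_of_faithfullyFlat_tower (B ⊗[A] B) B C

end Groth.Agent.WEtale
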