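import Groth.Agent.WEtale.Basic
import Mathlib.RingTheory.Unramified.Field
import Mathlib.RingTheory.Ideal.Quotient.Operations
import Mathlib.RingTheory.Flat.Basic
import Mathlib.RingTheory.IntegralClosure.IsIntegralClosure.Basic
import Mathlib.FieldTheory.IntermediateField.Adjoin.Algebra
import Mathlib.LinearAlgebra.Basis.VectorSpace
import Mathlib.RingTheory.LocalRing.ResidueField.Ideal

/-! Weakly étale algebras over a field. -/

set_option autoImplicit false

open TensorProduct

namespace Groth.Agent.WEtale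

universe u

lemma IsVNR.of_surjective {A B : Type*} [CommRing A] [CommRing B] (f : A →+* B)
    (hf : Function.Surjective f) (h : IsVNR A) : IsVNR B := by
  intro b
  obtain ⟨a, rfl⟩ := hf b
  obtain ⟨c, hc⟩ := h a
  exact ⟨f c, by rw [← map_mul, ← map_mul, ← hc]⟩

lemma isVNR_of_field (K : Type*) [Field K] : IsVNR K := fun a => ⟨a⁻¹, by simp⟩

lemma IsVNR.isField {A : Type*} [CommRing A] [IsDomain A] (h : IsVNR A) : IsField A := by
  refine ⟨⟨0, 1, zero_ne_one⟩, mul_comm, fun {a} ha => ?_⟩
  obtain ⟨b, hb⟩ := h a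
  exact ⟨b, mul_left_cancel₀ ha (by rw [mul_one, ← mul_assoc]; exact hb.symm)⟩

/-- quotient maps out of absolutely flat rings are weakly étale -/
lemma weaklyEtale_of_surjective {A B : Type*} [CommRing A] [CommRing B] [Algebra A B]
    (h : IsVNR A) (hs : Function.Surjective (algebraMap A B)) : Algebra.WeaklyEtale A B where
  flat := h.flat B
  flat_lmul' := by
    refine RingHom.Flat.of_bijective ⟨fun x y hxy => ?_, fun b => ⟨b ⊗ₜ 1, by simp⟩⟩
    have : ∀ z : B ⊗[A] B, z = Algebra.TensorProduct.lmul' A z ⊗ₜ 1 := by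
      intro z
      induction z with
      | zero => simp
      | add x y hx hy => rw [map_add, add_tmul, ← hx, ← hy]
      | tmul a b =>
        obtain ⟨r, rfl⟩ := hs b
        rw [Algebra.TensorProduct.lmul'_apply_tmul, Algebra.algebraMap_eq_smul_one, mul_smul_comm,
          mul_one, TensorProduct.smul_tmul]
    rw [this x, this y]
    exact congrArg (· ⊗ₜ[A] (1 : B)) hxy

/-- An algebra over a field is weakly étale if its self tensor product is absolutely flat. -/
lemma weaklyEtale_of_isVNR {K : Type*} [Field K] {B : Type*} [CommRing B] [Algebra K B]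
    (h : IsVNR (B ⊗[K] B)) : Algebra.WeaklyEtale K B where
  flat := inferInstance
  flat_lmul' := by
    let _ := (Algebra.TensorProduct.lmul' K (S := B)).toRingHom.toAlgebra
    exact h.flat B

lemma IsVNR.tensor_self {K : Type*} [Field K] (B : Type*) [CommRing B] [Algebra K B]
    [Algebra.WeaklyEtale K B] : IsVNR (B ⊗[K] B) :=
  ((isVNR_of_field K).of_weaklyEtale B).of_weaklyEtale (B ⊗[K] B)

lemma weaklyEtale_quotient {K : Type*} [Field K] {B C : Type*} [CommRing B] [Algebra K B]
    [CommRing C] [Algebra K C] (f : B →ₐ[K] C) (hf : Function.Surjective f)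
    [Algebra.WeaklyEtale K B] : Algebra.WeaklyEtale K C := by
  refine weaklyEtale_of_isVNR ((IsVNR.tensor_self (K := K) B).of_surjective
    (Algebra.TensorProduct.map f f).toRingHom ?_)
  exact TensorProduct.map_surjective hf hf

lemma formallyUnramified_intermediateField {K L : Type*} [Field K] [Field L] [Algebra K L]
    [Algebra.WeaklyEtale K L] (F : IntermediateField K L) : Algebra.FormallyUnramified K F := by
  constructor
  rw [KaehlerDifferential, Ideal.cotangent_subsingleton_iff]
  refine le_antisymm Ideal.mul_le_right fun a ha => ?_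
  obtain ⟨r, hr⟩ := LinearMap.exists_leftInverse_of_injective (Algebra.linearMap F L)
    (LinearMap.ker_eq_bot.mpr (algebraMap F L).injective)
  let R := TensorProduct.map (r.restrictScalars K) (r.restrictScalars K)
  let i := Algebra.TensorProduct.map F.val F.val
  have hR : ∀ (x : F ⊗[K] F) (w : L ⊗[K] L), R (i x * w) = x * R w := by
    intro x w
    induction x with
    | zero => simp
    | add x y hx hy => rw [map_add, add_mul, map_add, hx, hy, add_mul]
    | tmul p q =>
      induction w with
      | zero => simp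
      | add x y hx hy => simp only [mul_add, map_add, hx, hy]
      | tmul l m =>
        simp only [R, i, Algebra.TensorProduct.map_tmul, Algebra.TensorProduct.tmul_mul_tmul,
          TensorProduct.map_tmul, LinearMap.restrictScalars_apply]
        rw [show F.val p * l = p • l from rfl, show F.val q * m = q • m from rfl,
          map_smul, map_smul, smul_eq_mul, smul_eq_mul]
  obtain ⟨z, hz⟩ := IsVNR.tensor_self (K := K) L (i a)
  have h1 : R (i a) = a := by
    have hone : R 1 = 1 := by
      have : r 1 = 1 := by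
        have := LinearMap.congr_fun hr 1
        simpa using this
      simp [R, Algebra.TensorProduct.one_def, this]
    rw [← mul_one (i a), hR, hone, mul_one]
  rw [← h1, hz, mul_assoc, hR, hR]
  exact Ideal.mul_mem_mul ha (Ideal.mul_mem_right _ _ ha)

lemma isSeparable_of_field {K L : Type u} [Field K] [Field L] [Algebra K L]
    [Algebra.WeaklyEtale K L] : Algebra.IsSeparable K L := by
  refine ⟨fun x => ?_⟩
  have := formallyUnramified_intermediateField (IntermediateField.adjoin K {x})
  have : Algebra.EssFiniteType K (IntermediateField.adjoin K {x}) :=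
    IntermediateField.essFiniteType_iff.mpr ⟨{x}, by rw [Finset.coe_singleton]⟩
  have hsep := Algebra.FormallyUnramified.isSeparable K (IntermediateField.adjoin K {x})
  exact (IntermediateField.isSeparable_adjoin_simple_iff_isSeparable K L).mp hsep

lemma isIntegral_of_weaklyEtale {K B : Type u} [Field K] [CommRing B] [Algebra K B]
    [Algebra.WeaklyEtale K B] : Algebra.IsIntegral K B := by
  classical
  have hB := (isVNR_of_field K).of_weaklyEtale B
  refine ⟨fun b => ?_⟩
  let S : Set B := {e | ∃ f : Polynomial K, f.Monic ∧ Polynomial.aeval b f * e = 0}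
  have htop : Ideal.span S = ⊤ := by
    by_contra hne
    obtain ⟨P, hP, hle⟩ := Ideal.exists_le_maximal _ hne
    let _ : Field (B ⧸ P) := Ideal.Quotient.field P
    have := weaklyEtale_quotient (Ideal.Quotient.mkₐ K P) Ideal.Quotient.mk_surjective
    have := isSeparable_of_field (K := K) (L := B ⧸ P)
    let f := minpoly K (Ideal.Quotient.mkₐ K P b)
    have hint : IsIntegral K (Ideal.Quotient.mkₐ K P b) :=
      Algebra.IsIntegral.isIntegral _
    have hfP : Polynomial.aeval b f ∈ P := by
      have h0 : Polynomial.aeval (Ideal.Quotient.mkₐ K P b) f = 0 := minpoly.aeval K _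
      rw [Polynomial.aeval_algHom_apply] at h0
      exact Ideal.Quotient.eq_zero_iff_mem.mp h0
    obtain ⟨y, hy⟩ := hB (Polynomial.aeval b f)
    have hmem : 1 - Polynomial.aeval b f * y ∈ S :=
      ⟨f, minpoly.monic hint, by linear_combination hy⟩
    apply hP.ne_top
    rw [Ideal.eq_top_iff_one]
    simpa using P.add_mem (hle (Ideal.subset_span hmem)) (P.mul_mem_right y hfP)
  have h1 : (1 : B) ∈ Ideal.span S := htop ▸ Submodule.mem_top
  suffices ∃ f : Polynomial K, f.Monic ∧ Polynomial.aeval b f * (1 : B) = 0 by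
    obtain ⟨f, hf, hf0⟩ := this
    exact ⟨f, hf, by rw [mul_one] at hf0; exact hf0⟩
  refine Submodule.span_induction ?_ ?_ ?_ ?_ h1
  · exact fun x hx => hx
  · exact ⟨1, Polynomial.monic_one, mul_zero _⟩
  · rintro x y - - ⟨f, hf, hx⟩ ⟨g, hg, hy⟩
    refine ⟨f * g, hf.mul hg, ?_⟩
    rw [map_mul]
    linear_combination Polynomial.aeval b g * hx + Polynomial.aeval b f * hy
  · rintro a x - ⟨f, hf, hx⟩
    exact ⟨f, hf, by rw [smul_eq_mul]; linear_combination a * hx⟩

lemma isVNR_of_isReduced_of_isIntegral (K : Type*) {B : Type u} [Field K] [CommRing B]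
    [Algebra K B] [IsReduced B] [Algebra.IsIntegral K B] : IsVNR B := by
  refine isVNR_of_flat fun M _ _ => flat_of_isField_localization (fun p _ => ?_) M
  refine isField_localization_of_isMaximal (fun q hq => ?_) p
  exact Ideal.Quotient.maximal_of_isField q
    (isField_of_isIntegral_of_isField' (R := K) (Field.toIsField K))

lemma isIntegral_tensor (K : Type*) [Field K] (A B : Type*) [CommRing A] [CommRing B]
    [Algebra K A] [Algebra K B] [Algebra.IsIntegral K A] [Algebra.IsIntegral K B] :
    Algebra.IsIntegral K (A ⊗[K] B) := by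
  refine ⟨fun z => ?_⟩
  induction z with
  | zero => exact isIntegral_zero
  | add x y hx hy => exact hx.add hy
  | tmul a b =>
    rw [show a ⊗ₜ[K] b = (Algebra.TensorProduct.includeLeft (R := K) (S := K) (A := A) (B := B) a) *
      (Algebra.TensorProduct.includeRight (R := K) (A := A) (B := B) b) by simp]
    exact ((Algebra.IsIntegral.isIntegral a).map _).mul ((Algebra.IsIntegral.isIntegral b).map _)

lemma weaklyEtale_of_injective {K B C : Type u} [Field K] [CommRing B] [Algebra K B]
    [CommRing C] [Algebra K C] (f : C →ₐ[K] B) (hf : Function.Injective f)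
    [Algebra.WeaklyEtale K B] : Algebra.WeaklyEtale K C := by
  have := isIntegral_of_weaklyEtale (K := K) (B := B)
  have : Algebra.IsIntegral K C :=
    ⟨fun x => (isIntegral_algHom_iff f hf).mp (Algebra.IsIntegral.isIntegral _)⟩
  have := isIntegral_tensor K C C
  have := (IsVNR.tensor_self (K := K) B).isReduced
  have : IsReduced (C ⊗[K] C) := isReduced_of_injective (Algebra.TensorProduct.map f f)
    (TensorProduct.map_injective_of_flat_flat f.toLinearMap f.toLinearMap hf hf)
  exact weaklyEtale_of_isVNR (isVNR_of_isReduced_of_isIntegral K)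

lemma weaklyEtale_tensor (K : Type*) [Field K] (A B : Type*) [CommRing A] [CommRing B]
    [Algebra K A] [Algebra K B] [Algebra.WeaklyEtale K A] [Algebra.WeaklyEtale K B] :
    Algebra.WeaklyEtale K (A ⊗[K] B) :=
  Algebra.WeaklyEtale.trans K A (A ⊗[K] B)

lemma weaklyEtale_sup {K A : Type u} [Field K] [CommRing A] [Algebra K A]
    (S T : Subalgebra K A) [Algebra.WeaklyEtale K S] [Algebra.WeaklyEtale K T] :
    Algebra.WeaklyEtale K ↥(S ⊔ T) := by
  have := weaklyEtale_tensor K S T
  have h : (Algebra.TensorProduct.productMap S.val T.val).range = S ⊔ T := by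
    rw [Algebra.TensorProduct.productMap_range, Subalgebra.range_val, Subalgebra.range_val]
  rw [← h]
  exact weaklyEtale_quotient (Algebra.TensorProduct.productMap S.val T.val).rangeRestrict
    (AlgHom.rangeRestrict_surjective _)

/-- The supremum of a family of weakly étale subalgebras is weakly étale. -/
lemma weaklyEtale_sSup {K A : Type u} [Field K] [CommRing A] [Algebra K A]
    (𝒮 : Set (Subalgebra K A)) (h : ∀ S ∈ 𝒮, Algebra.WeaklyEtale K S) :
    Algebra.WeaklyEtale K ↥(sSup 𝒮) := by
  classical
  let D : Set (Subalgebra K A) := {S | S ≤ sSup 𝒮 ∧ Algebra.WeaklyEtale K S}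
  have hbot : (⊥ : Subalgebra K A) ∈ D :=
    ⟨bot_le, weaklyEtale_quotient (Algebra.ofId K (⊥ : Subalgebra K A)) (fun x => by
      obtain ⟨r, hr⟩ := Algebra.mem_bot.mp x.2
      exact ⟨r, Subtype.ext hr⟩)⟩
  have hdir : DirectedOn (· ≤ ·) D := fun S hS T hT => by
    have := hS.2
    have := hT.2
    exact ⟨S ⊔ T, ⟨sup_le hS.1 hT.1, weaklyEtale_sup S T⟩, le_sup_left, le_sup_right⟩
  have : Nonempty D := ⟨⟨⊥, hbot⟩⟩
  have hsup : sSup 𝒮 = ⨆ S : D, (S : Subalgebra K A) :=
    le_antisymm (sSup_le fun S hS => le_iSup (fun S : D => (S : Subalgebra K A)) ⟨S, le_sSup hS, h S hS⟩)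
      (iSup_le fun S => S.2.1)
  have hd : Directed (· ≤ ·) fun S : D => (S : Subalgebra K A) := directedOn_iff_directed.mp hdir
  have hmem : ∀ x : ↥(sSup 𝒮), ∃ S ∈ D, (x : A) ∈ S := by
    intro x
    have hx : (x : A) ∈ ((⨆ S : D, (S : Subalgebra K A) : Subalgebra K A) : Set A) := hsup ▸ x.2
    rw [Subalgebra.coe_iSup_of_directed hd] at hx
    obtain ⟨S, hS⟩ := Set.mem_iUnion.mp hx
    exact ⟨S.1, S.2, hS⟩
  refine weaklyEtale_of_isVNR fun z => ?_
  suffices ∃ (S : Subalgebra K A) (hS : S ∈ D) (w : S ⊗[K] S),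
      Algebra.TensorProduct.map (Subalgebra.inclusion hS.1) (Subalgebra.inclusion hS.1) w = z by
    obtain ⟨S, hS, w, rfl⟩ := this
    have := hS.2
    obtain ⟨c, hc⟩ := IsVNR.tensor_self (K := K) S w
    refine ⟨Algebra.TensorProduct.map (Subalgebra.inclusion hS.1) (Subalgebra.inclusion hS.1) c, ?_⟩
    rw [← map_mul, ← map_mul, ← hc]
  induction z with
  | zero => exact ⟨⊥, hbot, 0, map_zero _⟩
  | tmul x y =>
    obtain ⟨S, hS, hx⟩ := hmem x
    obtain ⟨T, hT, hy⟩ := hmem y
    obtain ⟨U, hU, hSU, hTU⟩ := hdir S hS T hT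
    exact ⟨U, hU, (⟨x, hSU hx⟩ : U) ⊗ₜ (⟨y, hTU hy⟩ : U), rfl⟩
  | add x y hx hy =>
    obtain ⟨S, hS, a, rfl⟩ := hx
    obtain ⟨T, hT, b, rfl⟩ := hy
    obtain ⟨U, hU, hSU, hTU⟩ := hdir S hS T hT
    refine ⟨U, hU, Algebra.TensorProduct.map (Subalgebra.inclusion hSU) (Subalgebra.inclusion hSU) a +
      Algebra.TensorProduct.map (Subalgebra.inclusion hTU) (Subalgebra.inclusion hTU) b, ?_⟩
    rw [map_add]
    simp only [← AlgHom.comp_apply, ← Algebra.TensorProduct.map_comp]
    rfl

lemma weaklyEtale_maximal {K A : Type u} [Field K] [CommRing A] [Algebra K A]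
    {S : Subalgebra K A} (hS : Algebra.WeaklyEtale K S) (𝒮 : Set (Subalgebra K A))
    (h : S ∈ 𝒮) : S ≤ sSup 𝒮 := le_sSup h

section Residue

variable {A B : Type u} [CommRing A] [CommRing B] [Algebra A B] [Algebra.WeaklyEtale A B]

/-- residue field extensions of weakly étale algebras are separable -/
lemma isSeparable_residue {k L : Type u} [Field k] [Field L] [Algebra A k] [Algebra A L]
    [Algebra k L] [IsScalarTower A k L] [Algebra B L] [IsScalarTower A B L]
    (hgen : ∀ x : L, ∃ b s : B, algebraMap B L s ≠ 0 ∧ x = algebraMap B L b / algebraMap B L s) :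
    Algebra.IsSeparable k L := by
  let φ : k ⊗[A] B →ₐ[k] L := Algebra.TensorProduct.lift (Algebra.ofId k L)
    (IsScalarTower.toAlgHom A B L) (fun _ _ => Commute.all _ _)
  have hv : IsVNR (k ⊗[A] B) := (isVNR_of_field k).of_weaklyEtale _
  have hfld : IsField φ.range := (hv.of_surjective φ.rangeRestrict.toRingHom
    (AlgHom.rangeRestrict_surjective φ)).isField
  have hs : Function.Surjective φ := by
    intro x
    obtain ⟨b, s, hs0, rfl⟩ := hgen x
    have hmem : ∀ c : B, algebraMap B L c ∈ φ.range := fun c => ⟨1 ⊗ₜ c, by simp [φ]⟩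
    obtain ⟨t, ht⟩ := hfld.mul_inv_cancel (a := (⟨_, hmem s⟩ : φ.range))
      (fun hz => hs0 (congrArg Subtype.val hz))
    have ht' : algebraMap B L s * (t : L) = 1 := congrArg Subtype.val ht
    have : algebraMap B L b / algebraMap B L s = algebraMap B L b * t := by
      rw [div_eq_iff hs0, mul_assoc, mul_comm (t : L), ht', mul_one]
    obtain ⟨u, hu⟩ := φ.range.mul_mem (hmem b) t.2
    exact ⟨u, hu.trans this.symm⟩
  have := weaklyEtale_quotient φ hs
  exact isSeparable_of_field

end Residue

end Groth.Agent.WEtale
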