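import Groth.Agent.WEtale.Field
import Groth.Prelude.Def_PBC
import Mathlib.Algebra.Category.Ring.Under.Basic
import Mathlib.RingTheory.Etale.Field
import Mathlib.RingTheory.Smooth.Fiber
import Mathlib.Algebra.Algebra.Subalgebra.Directed
import Mathlib.CategoryTheory.Filtered.Basic

/-! Weakly étale algebras over fields are the ind-étale ones. -/

set_option autoImplicit false

open TensorProduct CategoryTheory CategoryTheory.Limits

namespace Groth.Agent.WEtale

universe u

lemma formallyUnramified_of_weaklyEtale (A B : Type*) [CommRing A] [CommRing B] [Algebra A B]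
    [Algebra.WeaklyEtale A B] : Algebra.FormallyUnramified A B := by
  constructor
  rw [KaehlerDifferential, Ideal.cotangent_subsingleton_iff]
  have hp : (KaehlerDifferential.ideal A B).Pure := by
    let μ := Algebra.TensorProduct.lmul' A (S := B)
    let _ := μ.toRingHom.toAlgebra
    have : Module.Flat (B ⊗[A] B) B := Algebra.WeaklyEtale.flat_lmul' A B
    have hs : Function.Surjective μ := fun b => ⟨b ⊗ₜ 1, by simp [μ]⟩
    exact Module.Flat.of_linearEquiv (Ideal.quotientKerAlgEquivOfSurjective
      (f := Algebra.ofId (B ⊗[A] B) B) hs).toLinearEquiv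
  exact Ideal.isIdempotentElem_of_pure _

variable {K B : Type u} [Field K] [CommRing B] [Algebra K B]

lemma etale_subalgebra_of_fg [Algebra.WeaklyEtale K B] (S : Subalgebra K B) (hS : S.FG) :
    Algebra.Etale K S := by
  have := weaklyEtale_of_injective S.val Subtype.val_injective
  have := formallyUnramified_of_weaklyEtale K S
  have : Algebra.FiniteType K S := ⟨(Subalgebra.fg_top S).mpr hS⟩
  have : Algebra.FinitePresentation K S := Algebra.FinitePresentation.of_finiteType.mp this
  exact Algebra.Etale.of_formallyUnramified_of_flat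

lemma fg_sup {S T : Subalgebra K B} (hS : S.FG) (hT : T.FG) : (S ⊔ T).FG := by
  classical
  obtain ⟨s, rfl⟩ := hS
  obtain ⟨t, rfl⟩ := hT
  exact ⟨s ∪ t, by rw [Finset.coe_union, Algebra.adjoin_union]⟩

variable (K) in
/-- the algebra structure on an object under `K` -/
@[reducible] noncomputable def underAlgebra (X : Under (CommRingCat.of K)) : Algebra K X.right :=
  X.hom.hom.toAlgebra

attribute [local instance] underAlgebra

/-- a morphism out of `mkUnder` as an algebra map -/
noncomputable def outHom {A : Type u} [CommRing A] [Algebra K A] {X : Under (CommRingCat.of K)}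
    (f : CommRingCat.mkUnder (CommRingCat.of K) A ⟶ X) : A →ₐ[K] X.right where
  __ := f.right.hom
  commutes' r := congrArg (fun g : CommRingCat.of K ⟶ X.right => g.hom r) (Under.w f)

variable (K B) in
/-- the system of finitely generated subalgebras -/
noncomputable def fgDiagram : {S : Subalgebra K B // S.FG} ⥤ Under (CommRingCat.of K) where
  obj S := CommRingCat.mkUnder (CommRingCat.of K) S.1
  map {S T} h := AlgHom.toUnder (Subalgebra.inclusion (leOfHom h : S ≤ T))

variable (K B) in
/-- its cocone with vertex `B` -/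
noncomputable def fgCocone : Cocone (fgDiagram K B) where
  pt := CommRingCat.mkUnder (CommRingCat.of K) B
  ι :=
    { app := fun S => AlgHom.toUnder S.1.val
      naturality := fun S T h => by
        apply CommRingCat.mkUnder_ext
        intro a
        rfl }

lemma fg_adjoin_singleton (b : B) : (Algebra.adjoin K {b} : Subalgebra K B).FG := by
  classical
  exact ⟨{b}, by rw [Finset.coe_singleton]⟩

lemma iSup_fg : (⨆ S : {S : Subalgebra K B // S.FG}, S.1) = ⊤ :=
  top_le_iff.mp fun b _ => SetLike.le_def.mp
    (le_iSup (fun S : {S : Subalgebra K B // S.FG} => S.1) ⟨_, fg_adjoin_singleton b⟩)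
    (Algebra.self_mem_adjoin_singleton K b)

lemma directed_fg : Directed (· ≤ ·) fun S : {S : Subalgebra K B // S.FG} => S.1 :=
  fun S T => ⟨⟨S.1 ⊔ T.1, fg_sup S.2 T.2⟩, le_sup_left, le_sup_right⟩

lemma descHom_compat (s : Cocone (fgDiagram K B)) (S T : {S : Subalgebra K B // S.FG})
    (h : S.1 ≤ T.1) :
    outHom (A := S.1) (s.ι.app S) = (outHom (A := T.1) (s.ι.app T)).comp (Subalgebra.inclusion h) := by
  ext x
  exact (congrArg (fun f => f.right.hom x) (s.w (homOfLE (show S ≤ T from h)))).symm

variable [Nonempty {S : Subalgebra K B // S.FG}]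

/-- the map out of `B` defined by a cocone -/
noncomputable def descHom (s : Cocone (fgDiagram K B)) : B →ₐ[K] s.pt.right :=
  (Subalgebra.iSupLift (fun S : {S : Subalgebra K B // S.FG} => S.1) directed_fg
    (fun S => outHom (A := S.1) (s.ι.app S)) (descHom_compat s) ⊤ iSup_fg.ge).comp
    Subalgebra.topEquiv.symm.toAlgHom

lemma descHom_apply (s : Cocone (fgDiagram K B)) (S : {S : Subalgebra K B // S.FG}) (a : S.1) :
    descHom s a = outHom (A := S.1) (s.ι.app S) a :=
  Subalgebra.iSupLift_mk (K := fun S : {S : Subalgebra K B // S.FG} => S.1) (dir := directed_fg)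
    (f := fun S => outHom (A := S.1) (s.ι.app S)) (hf := descHom_compat s) (hT := iSup_fg.ge)
    (i := S) a Algebra.mem_top

omit [Nonempty {S : Subalgebra K B // S.FG}] in
variable (K B) in
/-- `B` is the colimit of its finitely generated subalgebras -/
noncomputable def fgIsColimit : IsColimit (fgCocone K B) :=
  haveI : Nonempty {S : Subalgebra K B // S.FG} := ⟨⟨⊥, Subalgebra.fg_bot⟩⟩
  { desc := fun s => Under.homMk (CommRingCat.ofHom (descHom s).toRingHom) (by
      ext r
      exact AlgHom.commutes _ r)
    fac := fun s S => CommRingCat.mkUnder_ext fun a => descHom_apply s S a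
    uniq := fun s m hm => CommRingCat.mkUnder_ext fun b =>
      (congrArg (fun f => f.right.hom (⟨b, Algebra.self_mem_adjoin_singleton K b⟩ :
        Algebra.adjoin K {b})) (hm ⟨_, fg_adjoin_singleton b⟩)).trans
      (descHom_apply s ⟨_, fg_adjoin_singleton b⟩
        ⟨b, Algebra.self_mem_adjoin_singleton K b⟩).symm }

omit [Nonempty {S : Subalgebra K B // S.FG}]

lemma etale_congr {A : Type u} [CommRing A] (i j : Algebra K A)
    (h : ∀ r, @algebraMap K A _ _ i r = @algebraMap K A _ _ j r)
    (hj : @Algebra.Etale K A _ _ j) : @Algebra.Etale K A _ _ i :=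
  Algebra.algebra_ext i j h ▸ hj

lemma isIndEtale_of_weaklyEtale [Algebra.WeaklyEtale K B] : EtPBC.IsIndEtale K B := by
  have : Nonempty {S : Subalgebra K B // S.FG} := ⟨⟨⊥, Subalgebra.fg_bot⟩⟩
  have : IsDirectedOrder {S : Subalgebra K B // S.FG} :=
    ⟨fun S T => ⟨⟨S.1 ⊔ T.1, fg_sup S.2 T.2⟩, le_sup_left (a := S.1), le_sup_right (b := T.1)⟩⟩
  refine ⟨{S : Subalgebra K B // S.FG}, inferInstance, inferInstance, fgDiagram K B, fgCocone K B,
    fgIsColimit K B, fun S => ?_, ⟨Iso.refl _⟩⟩
  exact etale_congr (A := S.1) _ S.1.algebra (fun _ => rfl) (etale_subalgebra_of_fg S.1 S.2)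

lemma weaklyEtale_of_isIndEtale (h : EtPBC.IsIndEtale K B) : Algebra.WeaklyEtale K B := by
  obtain ⟨J, _, _, D, c, hc, het, ⟨e⟩⟩ := h
  let ψ : ∀ j, (D.obj j).right →ₐ[K] B := fun j =>
    { (c.ι.app j ≫ e.hom).right.hom with
      commutes' := fun r =>
        congrArg (fun g : CommRingCat.of K ⟶ CommRingCat.of B => g.hom r)
          (Under.w (c.ι.app j ≫ e.hom)) }
  let 𝒮 : Set (Subalgebra K B) := Set.range fun j => (ψ j).range
  have hW : Algebra.WeaklyEtale K ↥(sSup 𝒮) := by
    refine weaklyEtale_sSup _ ?_
    rintro S ⟨j, rfl⟩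
    haveI : Algebra.Etale K (D.obj j).right := het j
    exact weaklyEtale_quotient (ψ j).rangeRestrict (AlgHom.rangeRestrict_surjective _)
  let φ : ∀ j, (D.obj j).right →ₐ[K] ↥(sSup 𝒮) := fun j =>
    (ψ j).codRestrict (sSup 𝒮) fun x =>
      SetLike.le_def.mp (le_sSup (s := 𝒮) ⟨j, rfl⟩) ⟨x, rfl⟩
  let s : Cocone D :=
    { pt := CommRingCat.mkUnder (CommRingCat.of K) ↥(sSup 𝒮)
      ι :=
        { app := fun j => Under.homMk (CommRingCat.ofHom (φ j).toRingHom) (by
              ext r
              exact (φ j).commutes r)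
          naturality := fun i j f => by
            ext x
            change (φ j) ((D.map f).right x) = φ i x
            refine Subtype.ext ?_
            change e.hom.right ((c.ι.app j).right ((D.map f).right x)) =
              e.hom.right ((c.ι.app i).right x)
            rw [← c.w f]
            rfl } }
  let W := sSup 𝒮
  have hid : hc.desc s ≫ (AlgHom.toUnder W.val : CommRingCat.mkUnder (CommRingCat.of K) W ⟶ _) = e.hom := by
    refine hc.hom_ext fun j => ?_
    rw [hc.fac_assoc]
    refine StructuredArrow.hom_ext _ _ ?_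
    ext x
    rfl
  have hsurj : Function.Surjective W.val := fun b => by
    refine ⟨(hc.desc s).right (e.inv.right b), ?_⟩
    have := congrArg (fun f : CommRingCat.mkUnder (CommRingCat.of K) B ⟶ _ => CommRingCat.toAlgHom f b)
      (show e.inv ≫ hc.desc s ≫
        (AlgHom.toUnder W.val : CommRingCat.mkUnder (CommRingCat.of K) W ⟶ _) = 𝟙 _ by
        rw [hid, Iso.inv_hom_id])
    exact this
  exact weaklyEtale_quotient W.val hsurj

end Groth.Agent.WEtale
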