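import Groth.Agent.WEtale.Field
import Groth.Prelude.Def_EtAlgD
import Mathlib.RingTheory.Etale.StandardEtale
import Mathlib.Dynamics.Newton
import Mathlib.FieldTheory.Separable
import Mathlib.RingTheory.Nilpotent.Lemmas

/-! The maximal weakly étale subalgebra. -/

set_option autoImplicit false

open TensorProduct Polynomial

namespace Groth.Agent.WEtale

universe u

variable {K A : Type u} [Field K] [CommRing A] [Algebra K A]

lemma weaklyEtale_maxWeaklyEtale : Algebra.WeaklyEtale K ↥(EtAlgD.maxWeaklyEtale K A) :=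
  weaklyEtale_sSup _ fun _ h => h

lemma le_maxWeaklyEtale (S : Subalgebra K A) (h : Algebra.WeaklyEtale K S) :
    S ≤ EtAlgD.maxWeaklyEtale K A := le_sSup h

/-- every element of a weakly étale algebra over a field is a root of a separable polynomial -/
lemma exists_separable_aeval_eq_zero {B : Type u} [CommRing B] [Algebra K B]
    [Algebra.WeaklyEtale K B] (b : B) : ∃ f : K[X], f.Monic ∧ f.Separable ∧ aeval b f = 0 := by
  classical
  have hB := (isVNR_of_field K).of_weaklyEtale B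
  let S : Set B := {e | ∃ s : Finset K[X], (∀ g ∈ s, g.Monic ∧ g.Separable ∧ Irreducible g) ∧
    aeval b (∏ g ∈ s, g) * e = 0}
  have htop : Ideal.span S = ⊤ := by
    by_contra hne
    obtain ⟨P, hP, hle⟩ := Ideal.exists_le_maximal _ hne
    let _ : Field (B ⧸ P) := Ideal.Quotient.field P
    have := weaklyEtale_quotient (Ideal.Quotient.mkₐ K P) Ideal.Quotient.mk_surjective
    have := isSeparable_of_field (K := K) (L := B ⧸ P)
    let f := minpoly K (Ideal.Quotient.mkₐ K P b)
    have hint : IsIntegral K (Ideal.Quotient.mkₐ K P b) :=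
      Algebra.IsIntegral.isIntegral _
    have hfP : aeval b f ∈ P := by
      have h0 : aeval (Ideal.Quotient.mkₐ K P b) f = 0 := minpoly.aeval K _
      rw [aeval_algHom_apply] at h0
      exact Ideal.Quotient.eq_zero_iff_mem.mp h0
    obtain ⟨y, hy⟩ := hB (aeval b f)
    have hmem : 1 - aeval b f * y ∈ S := by
      refine ⟨{f}, fun g hg => ?_, ?_⟩
      · rw [Finset.mem_singleton] at hg
        subst hg
        exact ⟨minpoly.monic hint, Algebra.IsSeparable.isSeparable K _, minpoly.irreducible hint⟩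
      · rw [Finset.prod_singleton]
        linear_combination hy
    apply hP.ne_top
    rw [Ideal.eq_top_iff_one]
    simpa using P.add_mem (hle (Ideal.subset_span hmem)) (P.mul_mem_right y hfP)
  have h1 : (1 : B) ∈ Ideal.span S := htop ▸ Submodule.mem_top
  suffices ∃ s : Finset K[X], (∀ g ∈ s, g.Monic ∧ g.Separable ∧ Irreducible g) ∧
      aeval b (∏ g ∈ s, g) * (1 : B) = 0 by
    obtain ⟨s, hs, hs0⟩ := this
    refine ⟨∏ g ∈ s, g, monic_prod_of_monic _ _ fun g hg => (hs g hg).1,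
      separable_prod' ?_ (fun g hg => (hs g hg).2.1), by simpa using hs0⟩
    intro g hg h hh hne
    rcases (hs g hg).2.2.isCoprime_or_dvd h with hc | hd
    · exact hc
    · exact absurd (eq_of_monic_of_associated (hs g hg).1 (hs h hh).1
        ((hs g hg).2.2.associated_of_dvd (hs h hh).2.2 hd)) hne
  refine Submodule.span_induction ?_ ?_ ?_ ?_ h1
  · exact fun x hx => hx
  · exact ⟨∅, by simp, by simp⟩
  · rintro x y - - ⟨s, hs, hx⟩ ⟨t, ht, hy⟩
    refine ⟨s ∪ t, fun g hg => (Finset.mem_union.mp hg).elim (hs g) (ht g), ?_⟩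
    obtain ⟨c, hc⟩ := Finset.prod_dvd_prod_of_subset s (s ∪ t) (fun g : K[X] => g)
      Finset.subset_union_left
    obtain ⟨d, hd⟩ := Finset.prod_dvd_prod_of_subset t (s ∪ t) (fun g : K[X] => g)
      Finset.subset_union_right
    rw [mul_add]
    conv_lhs => arg 1; rw [hc, map_mul]
    conv_lhs => arg 2; rw [hd, map_mul]
    linear_combination aeval b c * hx + aeval b d * hy
  · rintro a x - ⟨s, hs, hx⟩
    exact ⟨s, hs, by rw [smul_eq_mul]; linear_combination a * hx⟩

lemma mem_maxWeaklyEtale_of_separable {x : A} {f : K[X]} (hm : f.Monic) (hs : f.Separable)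
    (hx : aeval x f = 0) : x ∈ EtAlgD.maxWeaklyEtale K A := by
  obtain ⟨a, b, hab⟩ := hs
  let P : StandardEtalePair K := ⟨f, hm, 1, b, a, 0, by rw [pow_zero, ← hab]; ring⟩
  have hmap : P.HasMap x := ⟨hx, by simp [P]⟩
  let φ := P.lift x hmap
  have : Algebra.WeaklyEtale K φ.range :=
    weaklyEtale_quotient φ.rangeRestrict (AlgHom.rangeRestrict_surjective φ)
  exact le_maxWeaklyEtale φ.range this ⟨P.X, P.lift_X x hmap⟩

lemma mem_maxWeaklyEtale_iff {x : A} :
    x ∈ EtAlgD.maxWeaklyEtale K A ↔ ∃ f : K[X], f.Monic ∧ f.Separable ∧ aeval x f = 0 := by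
  refine ⟨fun hx => ?_, fun ⟨f, hm, hs, h⟩ => mem_maxWeaklyEtale_of_separable hm hs h⟩
  have := weaklyEtale_maxWeaklyEtale (K := K) (A := A)
  obtain ⟨f, hm, hs, h⟩ :=
    exists_separable_aeval_eq_zero (K := K) (⟨x, hx⟩ : EtAlgD.maxWeaklyEtale K A)
  refine ⟨f, hm, hs, ?_⟩
  have := congrArg (EtAlgD.maxWeaklyEtale K A).val h
  rw [← aeval_algHom_apply, map_zero] at this
  exact this

lemma map_maxWeaklyEtale (A' : Subalgebra K A) :
    (EtAlgD.maxWeaklyEtale K A').map A'.val = EtAlgD.maxWeaklyEtale K A ⊓ A' := by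
  ext x
  constructor
  · rintro ⟨y, hy, rfl⟩
    refine Algebra.mem_inf.mpr ⟨?_, y.2⟩
    obtain ⟨f, hm, hs, h⟩ := mem_maxWeaklyEtale_iff.mp hy
    exact mem_maxWeaklyEtale_iff.mpr ⟨f, hm, hs, by
      change (aeval (A'.val y)) f = 0
      rw [aeval_algHom_apply, h, map_zero]⟩
  · intro hx
    obtain ⟨h1, h2⟩ := Algebra.mem_inf.mp hx
    obtain ⟨f, hm, hs, h⟩ := mem_maxWeaklyEtale_iff.mp h1
    refine ⟨⟨x, h2⟩, mem_maxWeaklyEtale_iff.mpr ⟨f, hm, hs, ?_⟩, rfl⟩
    refine Subtype.ext ?_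
    rw [show ((aeval (⟨x, h2⟩ : A')) f : A) = A'.val (aeval (⟨x, h2⟩ : A') f) from rfl,
      ← aeval_algHom_apply]
    exact h

lemma bijOn_maxWeaklyEtale_reduction :
    Set.BijOn (Ideal.Quotient.mkₐ K (nilradical A)) (EtAlgD.maxWeaklyEtale K A)
      (EtAlgD.maxWeaklyEtale K (A ⧸ nilradical A)) := by
  refine ⟨fun x hx => ?_, fun x hx y hy hxy => ?_, fun x hx => ?_⟩
  · obtain ⟨f, hm, hs, h⟩ := mem_maxWeaklyEtale_iff.mp hx
    exact mem_maxWeaklyEtale_iff.mpr ⟨f, hm, hs, by rw [aeval_algHom_apply, h, map_zero]⟩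
  · have := weaklyEtale_maxWeaklyEtale (K := K) (A := A)
    have := ((isVNR_of_field K).of_weaklyEtale ↥(EtAlgD.maxWeaklyEtale K A)).isReduced
    obtain ⟨n, hn⟩ := mem_nilradical.mp ((Ideal.Quotient.eq).mp hxy)
    have h0 : (⟨x - y, sub_mem hx hy⟩ : EtAlgD.maxWeaklyEtale K A) = 0 :=
      IsReduced.eq_zero _ ⟨n, Subtype.ext (by simpa using hn)⟩
    exact sub_eq_zero.mp (congrArg Subtype.val h0)
  · obtain ⟨f, hm, hs, h⟩ := mem_maxWeaklyEtale_iff.mp hx
    obtain ⟨y, rfl⟩ := Ideal.Quotient.mkₐ_surjective K (nilradical A) x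
    rw [aeval_algHom_apply] at h
    have hnil : IsNilpotent (aeval y f) :=
      mem_nilradical.mp (Ideal.Quotient.eq_zero_iff_mem.mp h)
    have hu : IsUnit (aeval y (derivative f)) := by
      obtain ⟨a, b, hab⟩ := hs
      have h1 := congrArg (aeval y) hab
      simp only [map_add, map_mul, map_one] at h1
      have h2 : IsUnit (1 - aeval y a * aeval y f) :=
        ((Commute.all _ _).isNilpotent_mul_left hnil).isUnit_one_sub
      rw [← h1, add_sub_cancel_left] at h2
      exact isUnit_of_mul_isUnit_right h2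
    obtain ⟨r, ⟨hr, hr0⟩, -⟩ := existsUnique_nilpotent_sub_and_aeval_eq_zero hnil hu
    refine ⟨r, mem_maxWeaklyEtale_iff.mpr ⟨f, hm, hs, hr0⟩, ?_⟩
    exact (Ideal.Quotient.eq.mpr (mem_nilradical.mpr hr)).symm

lemma isField_maxWeaklyEtale (he : ∀ e : A, IsIdempotentElem e → e = 0 ∨ e = 1) [Nontrivial A] :
    IsField (EtAlgD.maxWeaklyEtale K A) ∧ Algebra.IsSeparable K (EtAlgD.maxWeaklyEtale K A) := by
  have := weaklyEtale_maxWeaklyEtale (K := K) (A := A)
  have hv := (isVNR_of_field K).of_weaklyEtale ↥(EtAlgD.maxWeaklyEtale K A)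
  have hfield : IsField (EtAlgD.maxWeaklyEtale K A) := by
    refine ⟨⟨0, 1, zero_ne_one⟩, mul_comm, fun {a} ha => ?_⟩
    obtain ⟨b, hb⟩ := hv a
    have hidem : IsIdempotentElem ((a * b : EtAlgD.maxWeaklyEtale K A) : A) := by
      have : (a * b) * (a * b) = a * b := by
        calc (a * b) * (a * b) = (a * a * b) * b := by ring
          _ = a * b := by rw [← hb]
      exact congrArg Subtype.val this
    rcases he _ hidem with h | h
    · refine absurd ?_ ha
      have : a * b = 0 := Subtype.ext h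
      rw [hb, mul_assoc, this, mul_zero]
    · exact ⟨b, Subtype.ext h⟩
  refine ⟨hfield, ?_⟩
  letI := hfield.toField
  exact isSeparable_of_field

end Groth.Agent.WEtale
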