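import Groth.Agent.WLoc.Covers
import Groth.Agent.NormalSmooth.Basic
import Mathlib

/-!
Normality ascends along weakly étale ring maps.
-/

set_option autoImplicit false

universe u

open Polynomial

namespace Groth.Agent.WEtale

/-- A ring is normal if finitely many elements lift to normal rings mapping to it, in such a way that
each element of the kernel dies in a further normal ring mapping to it. -/
theorem isNormalRing_of_stages (T : Type u) [CommRing T] (P₀ : ∀ (T0 : Type u) [CommRing T0], (T0 →+* T) → Prop)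
    (hnorm : ∀ (T0 : Type u) [CommRing T0] (f : T0 →+* T), P₀ T0 f → EGA4.IsNormalRing T0)
    (hker : ∀ (T0 : Type u) [CommRing T0] (f : T0 →+* T), P₀ T0 f → ∀ y : T0, f y = 0 →
      ∃ (T1 : Type u) (_ : CommRing T1) (f1 : T1 →+* T) (g : T0 →+* T1),
        P₀ T1 f1 ∧ f1.comp g = f ∧ g y = 0)
    (h : ∀ G : Finset T, ∃ (T0 : Type u) (_ : CommRing T0) (f : T0 →+* T),
      P₀ T0 f ∧ (G : Set T) ⊆ Set.range f) : EGA4.IsNormalRing T := fun q _ => by
  classical
  let Tq := Localization.AtPrime q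
  haveI : IsDomain Tq := by
    haveI : NoZeroDivisors Tq := ⟨fun {z w} hzw => by
      obtain ⟨a, s, rfl⟩ := IsLocalization.exists_mk'_eq q.primeCompl z
      obtain ⟨b, t, rfl⟩ := IsLocalization.exists_mk'_eq q.primeCompl w
      rw [← IsLocalization.mk'_mul, IsLocalization.mk'_eq_zero_iff] at hzw
      obtain ⟨u, hu⟩ := hzw
      obtain ⟨T00, _, f0, hP0, hG⟩ := h {a, b, (u : T)}
      obtain ⟨a00, ha0⟩ := hG (show a ∈ ({a, b, (u : T)} : Finset T) by simp)
      obtain ⟨b00, hb0⟩ := hG (show b ∈ ({a, b, (u : T)} : Finset T) by simp)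
      obtain ⟨u00, hu00⟩ := hG (show (u : T) ∈ ({a, b, (u : T)} : Finset T) by simp)
      obtain ⟨T0, _, f, g0, hP1, hfg, hgy⟩ := hker T00 f0 hP0 (u00 * (a00 * b00))
        (by rw [map_mul, map_mul, ha0, hb0, hu00, hu])
      let a0 := g0 a00
      let b0 := g0 b00
      let u0 := g0 u00
      have ha : f a0 = a := (RingHom.congr_fun hfg a00).trans ha0
      have hb : f b0 = b := (RingHom.congr_fun hfg b00).trans hb0
      have hu0 : f u0 = u := (RingHom.congr_fun hfg u00).trans hu00
      obtain ⟨hd, -⟩ := hnorm T0 f hP1 (q.comap f)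
      haveI := hd
      have h0 : u0 * (a0 * b0) = 0 := by rw [← map_mul, ← map_mul]; exact hgy
      have h1 : algebraMap T0 (Localization.AtPrime (q.comap f)) (a0 * b0) = 0 :=
        (IsLocalization.map_eq_zero_iff (q.comap f).primeCompl _ _).2 ⟨⟨u0, fun hmem => u.2 (hu0 ▸ hmem)⟩, h0⟩
      rw [map_mul] at h1
      rcases mul_eq_zero.1 h1 with h2 | h2
      · left
        obtain ⟨v, hv⟩ := (IsLocalization.map_eq_zero_iff (q.comap f).primeCompl _ _).1 h2
        exact (IsLocalization.mk'_eq_zero_iff a s).2 ⟨⟨f v, v.2⟩, by rw [← ha, ← map_mul, hv, map_zero]⟩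
      · right
        obtain ⟨v, hv⟩ := (IsLocalization.map_eq_zero_iff (q.comap f).primeCompl _ _).1 h2
        exact (IsLocalization.mk'_eq_zero_iff b t).2 ⟨⟨f v, v.2⟩, by rw [← hb, ← map_mul, hv, map_zero]⟩⟩
    exact NoZeroDivisors.to_isDomain _
  let K := FractionRing Tq
  refine ⟨inferInstance, (isIntegrallyClosed_iff K).2 fun {x} hx => ?_⟩
  -- reduce to an element integral over `T`
  obtain ⟨m, hm⟩ := hx.exists_multiple_integral_of_isLocalization q.primeCompl x
  have hK : ∀ r : T, algebraMap T K r = algebraMap Tq K (algebraMap T Tq r) :=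
    fun r => IsScalarTower.algebraMap_apply T Tq K r
  suffices hy : ∃ c, algebraMap Tq K c = m • x by
    obtain ⟨c, hc⟩ := hy
    refine ⟨c * IsLocalization.mk' Tq (1 : T) m, ?_⟩
    rw [map_mul, hc, Submonoid.smul_def, Algebra.smul_def, hK, mul_right_comm, ← map_mul,
      IsLocalization.mk'_spec', map_one, map_one, one_mul]
  clear hx
  generalize m • x = y at hm
  obtain ⟨z, ⟨w, hw⟩, rfl⟩ := IsLocalization.exists_mk'_eq (nonZeroDivisors Tq) y
  obtain ⟨a0, s, rfl⟩ := IsLocalization.exists_mk'_eq q.primeCompl z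
  obtain ⟨b0, t, rfl⟩ := IsLocalization.exists_mk'_eq q.primeCompl w
  -- a common denominator
  let a := a0 * (t : T)
  let b := b0 * (s : T)
  have hb : algebraMap T K b ≠ 0 := by
    have hb' : algebraMap T Tq b0 ≠ 0 := fun h0 => nonZeroDivisors.ne_zero hw
      ((IsLocalization.mk'_eq_zero_iff b0 t).2 ((IsLocalization.map_eq_zero_iff q.primeCompl _ _).1 h0))
    rw [hK, map_ne_zero_iff _ (IsFractionRing.injective Tq K), map_mul]
    exact mul_ne_zero hb' (IsLocalization.map_units Tq s).ne_zero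
  have hy : IsLocalization.mk' K (IsLocalization.mk' Tq a0 s) ⟨_, hw⟩ * algebraMap T K b = algebraMap T K a := by
    have e1 : algebraMap T Tq b = IsLocalization.mk' Tq b0 t * algebraMap T Tq ((t : T) * s) := by
      rw [map_mul, map_mul, ← mul_assoc, IsLocalization.mk'_spec]
    have e2 : algebraMap T Tq a = IsLocalization.mk' Tq a0 s * algebraMap T Tq ((t : T) * s) := by
      rw [map_mul, map_mul, mul_comm (algebraMap T Tq t), ← mul_assoc, IsLocalization.mk'_spec]
    rw [hK, hK, e1, e2, map_mul (algebraMap Tq K), map_mul (algebraMap Tq K), ← mul_assoc]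
    congr 1
    exact IsLocalization.mk'_spec K _ _
  obtain ⟨P, hP, hPy⟩ := hm
  have hrel : algebraMap T K ((P.scaleRoots b).eval a) = 0 := by
    rw [← Polynomial.eval₂_at_apply, ← hy, mul_comm]
    exact Polynomial.scaleRoots_eval₂_eq_zero _ hPy
  rw [hK, map_eq_zero_iff _ (IsFractionRing.injective Tq K),
    IsLocalization.map_eq_zero_iff q.primeCompl] at hrel
  obtain ⟨u, hu⟩ := hrel
  obtain ⟨T00, _, f0, hP0, hG⟩ := h ({a, b, (u : T)} ∪ P.support.image P.coeff)
  obtain ⟨a'', ha''⟩ := hG (show a ∈ ({a, b, (u : T)} ∪ P.support.image P.coeff : Finset T) by simp)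
  obtain ⟨b'', hb''⟩ := hG (show b ∈ ({a, b, (u : T)} ∪ P.support.image P.coeff : Finset T) by simp)
  obtain ⟨u'', hu''⟩ := hG (show (u : T) ∈ ({a, b, (u : T)} ∪ P.support.image P.coeff : Finset T) by simp)
  have hlift : P ∈ Polynomial.lifts f0 := (Polynomial.lifts_iff_coeff_lifts P).2 fun i => by
    by_cases hi : i ∈ P.support
    · exact hG (by simp only [Finset.coe_union, Finset.coe_image, Set.mem_union, Set.mem_image]
                   exact Or.inr ⟨i, hi, rfl⟩)
    · exact ⟨0, by rw [map_zero, Polynomial.notMem_support_iff.1 hi]⟩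
  obtain ⟨P'', hP'', -, hP''m⟩ := Polynomial.lifts_and_natDegree_eq_and_monic hlift hP
  haveI hnt : Nontrivial T := ⟨⟨0, 1, fun h01 => u.2 (by
      rw [← mul_one (u : T), ← h01, mul_zero]; exact zero_mem q)⟩⟩
  obtain ⟨T0, _, f, g0, hP1, hfg, hgy⟩ := hker T00 f0 hP0 (u'' * (P''.scaleRoots b'').eval a'') (by
    rw [map_mul, hu'', ← Polynomial.eval₂_at_apply, ← Polynomial.eval_map,
      Polynomial.map_scaleRoots _ _ _ (by rw [hP''m.leadingCoeff, map_one]; exact one_ne_zero), hP'', hb'', ha'', hu])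
  haveI : Nontrivial T0 := f.domain_nontrivial
  let a' := g0 a''
  let b' := g0 b''
  let u' := g0 u''
  let P' := P''.map g0
  have hP'm : P'.Monic := hP''m.map g0
  have hP' : P'.map f = P := by rw [Polynomial.map_map, hfg, hP'']
  have ha : f a' = a := (RingHom.congr_fun hfg a'').trans ha''
  have hb' : f b' = b := (RingHom.congr_fun hfg b'').trans hb''
  have hu' : f u' = u := (RingHom.congr_fun hfg u'').trans hu''
  obtain ⟨hd, hc⟩ := hnorm T0 f hP1 (q.comap f)
  haveI := hd
  haveI := hc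
  let S0 := Localization.AtPrime (q.comap f)
  have h0 : algebraMap T0 S0 ((P'.scaleRoots b').eval a') = 0 :=
    (IsLocalization.map_eq_zero_iff (q.comap f).primeCompl _ _).2
      ⟨⟨u', fun hmem => u.2 (hu' ▸ hmem)⟩, by
        change u' * (P'.scaleRoots b').eval a' = 0
        rw [← Polynomial.map_scaleRoots _ _ _ (by rw [hP''m.leadingCoeff, map_one]; exact one_ne_zero),
          Polynomial.eval_map, Polynomial.eval₂_at_apply, ← map_mul]
        exact hgy⟩
  have hb0' : algebraMap T0 S0 b' ≠ 0 := fun h0' => hb (by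
    obtain ⟨v, hv⟩ := (IsLocalization.map_eq_zero_iff (q.comap f).primeCompl _ _).1 h0'
    rw [hK, (IsLocalization.map_eq_zero_iff q.primeCompl _ b).2 ⟨⟨f v, v.2⟩, by rw [← hb', ← map_mul, hv, map_zero]⟩,
      map_zero])
  let F := FractionRing S0
  have hint : IsIntegral S0 (algebraMap S0 F (algebraMap T0 S0 a') / algebraMap S0 F (algebraMap T0 S0 b')) := by
    refine ⟨P'.map (algebraMap T0 S0), hP'm.map _, ?_⟩
    rw [Polynomial.eval₂_map]
    set g := (algebraMap S0 F).comp (algebraMap T0 S0) with hg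
    have hgb : g b' ≠ 0 := (map_ne_zero_iff _ (IsFractionRing.injective S0 F)).2 hb0'
    have key := Polynomial.scaleRoots_eval₂_mul (p := P') g (g a' / g b') b'
    rw [mul_div_cancel₀ _ hgb, Polynomial.eval₂_at_apply, hg, RingHom.comp_apply, h0, map_zero, ← hg] at key
    exact (mul_eq_zero.1 key.symm).resolve_left (pow_ne_zero _ hgb)
  obtain ⟨c, hc'⟩ := IsIntegrallyClosed.isIntegral_iff.1 hint
  obtain ⟨n, σ, rfl⟩ := IsLocalization.exists_mk'_eq (q.comap f).primeCompl c
  have e3 : algebraMap T0 S0 (a' * σ) = algebraMap T0 S0 (n * b') := by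
    apply IsFractionRing.injective S0 F
    rw [eq_div_iff ((map_ne_zero_iff _ (IsFractionRing.injective S0 F)).2 hb0')] at hc'
    rw [map_mul, map_mul (algebraMap T0 S0) n, ← IsLocalization.mk'_spec S0 n σ, map_mul, map_mul, map_mul, ← hc']
    ring
  rw [IsLocalization.eq_iff_exists (q.comap f).primeCompl] at e3
  obtain ⟨v, hv⟩ := e3
  refine ⟨IsLocalization.mk' Tq (f n) (⟨f σ, σ.2⟩ : q.primeCompl), mul_right_cancel₀ hb ?_⟩
  rw [hy, hK, hK, ← map_mul]
  congr 1
  have e4 : algebraMap T Tq (a * f σ) = algebraMap T Tq (f n * b) := by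
    refine (IsLocalization.eq_iff_exists q.primeCompl _).2 ⟨⟨f v, v.2⟩, ?_⟩
    show f v * (a * f σ) = f v * (f n * b)
    rw [← ha, ← hb', ← map_mul, ← map_mul, ← map_mul, ← map_mul, hv]
  refine (IsLocalization.map_units Tq (⟨f σ, σ.2⟩ : q.primeCompl)).mul_right_cancel ?_
  rw [mul_right_comm, IsLocalization.mk'_spec, ← map_mul, ← map_mul]
  exact e4.symm


/-- A ring ind-étale over a normal ring is normal. -/
theorem isNormalRing_of_etFactors {A C : Type u} [CommRing A] [CommRing C] [Algebra A C]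
    (h : IndEt.EtFactors A C) (hA : EGA4.IsNormalRing A) : EGA4.IsNormalRing C := by
  refine isNormalRing_of_stages C (fun T0 _ f => ∃ (_ : Algebra A T0), Algebra.Etale A T0 ∧
    f.comp (algebraMap A T0) = algebraMap A C) ?_ ?_ ?_
  · rintro T0 _ f ⟨_, hE, -⟩
    exact NormalSmooth.isNormalRing_of_etale A T0 hA
  · rintro T0 _ f ⟨_, hE, hf⟩ y hy
    let g0 : T0 →ₐ[A] C := { f with commutes' := fun r => RingHom.congr_fun hf r }
    haveI : Algebra.FinitePresentation A (T0 ⧸ Ideal.span {y}) :=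
      Algebra.FinitePresentation.quotient (Submodule.fg_span_singleton y)
    obtain ⟨E, _, _, hE', u, v, huv⟩ := h (T0 ⧸ Ideal.span {y})
      (Ideal.Quotient.liftₐ (Ideal.span {y}) g0 (fun a ha => by
        obtain ⟨c, rfl⟩ := Ideal.mem_span_singleton'.1 ha
        rw [map_mul, show g0 y = 0 from hy, mul_zero]))
    refine ⟨E, inferInstance, v.toRingHom, (u.comp (Ideal.Quotient.mkₐ A _)).toRingHom,
      ⟨inferInstance, hE', v.comp_algebraMap⟩, ?_, ?_⟩
    · ext a
      exact AlgHom.congr_fun huv (Ideal.Quotient.mk _ a)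
    · change u (Ideal.Quotient.mk _ y) = 0
      rw [Ideal.Quotient.eq_zero_iff_mem.2 (Ideal.mem_span_singleton_self y), map_zero]
  · intro G
    obtain ⟨E, _, _, hE, v, x, hx⟩ := h.exists_lift (ι := ULift.{u} (Fin G.card))
      (fun i => (G.equivFin.symm i.down : C))
    refine ⟨E, inferInstance, v.toRingHom, ⟨inferInstance, hE, v.comp_algebraMap⟩, fun c hc => ?_⟩
    refine ⟨x ⟨G.equivFin ⟨c, hc⟩⟩, ?_⟩
    change v _ = c
    rw [hx]
    simp

/-- A ring weakly étale over a normal ring is normal. -/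
theorem isNormalRing_of_weaklyEtale {A B : Type u} [CommRing A] [CommRing B] [Algebra A B]
    [Algebra.WeaklyEtale A B] (hA : EGA4.IsNormalRing A) : EGA4.IsNormalRing B := by
  obtain ⟨C, _, _, _, _, hff, -, hC⟩ := WLoc.exists_indEtale_refinement (A := A) (B := B)
  exact NormalSmooth.isNormalRing_of_faithfullyFlat B C
    (isNormalRing_of_etFactors (IndEt.etFactors_of_isIndEtale hC) hA)

end Groth.Agent.WEtale
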